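import Groth.Agent.FanOreLib
import Groth.Prelude.Def_W4c6instabfans3FanCvx
import Mathlib.Analysis.Convex.Basic
import Mathlib.CategoryTheory.Limits.Shapes.Pullback.HasPullback

/-!
Basic properties of formal fans and their projective realizations.
-/

universe u

open CategoryTheory Opposite Limits Instab Instab.Fan

namespace Groth.Agent.FanBasicLib

variable {F F' G : Fan.{u}}

theorem mk_eq {n₁ n₂ : ICone} {σ₁ : F.obj (op n₁)} {σ₂ : F.obj (op n₂)} {v₁ : Orth n₁}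
    {v₂ : Orth n₂} (h : P.mk σ₁ v₁ = P.mk σ₂ v₂) :
    ∃ (k : ICone) (φ₁ : k ⟶ n₁) (φ₂ : k ⟶ n₂) (y : Orth k) (c₁ c₂ : ℝ),
      F.map φ₁.op σ₁ = F.map φ₂.op σ₂ ∧ 0 < c₁ ∧ 0 < c₂ ∧
        v₁.1 = c₁ • φ₁.realMap y.1 ∧ v₂.1 = c₂ • φ₂.realMap y.1 := by
  obtain ⟨m, φ, ψ, w, c, c', hc, hc', e, e1, e2⟩ :=
    Groth.Agent.FanOre.common_of_eqvGen (Quot.eqvGen_exact h)
  exact ⟨m, φ, ψ, w, c, c', e, hc, hc', e1, e2⟩

theorem mk_glue {k n : ICone} (φ : k ⟶ n) (ξ : F.obj (op n)) (v : Orth k) (w : Orth n) (c : ℝ)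
    (hc : 0 < c) (h : w.1 = c • φ.realMap v.1) : P.mk (F.map φ.op ξ) v = P.mk ξ w :=
  Quot.sound (Rel.glue φ ξ v w c hc h)

theorem map_mk (f : F ⟶ G) {n : ICone} (ξ : F.obj (op n)) (v : Orth n) :
    P.map f (P.mk ξ v) = P.mk (f.app _ ξ) v := rfl

theorem exists_mk (x : P F) : ∃ (n : ICone) (ξ : F.obj (op n)) (v : Orth n), P.mk ξ v = x := by
  induction x using Quot.ind with
  | mk p => exact ⟨p.1.1, p.1.2, p.2, rfl⟩

theorem map_comp {H : Fan.{u}} (f : F ⟶ G) (g : G ⟶ H) (x : P F) :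
    P.map (f ≫ g) x = P.map g (P.map f x) := by
  obtain ⟨n, ξ, v, rfl⟩ := exists_mk x
  rfl

theorem mk_smul {n : ICone} (ξ : F.obj (op n)) (v w : Orth n) (c : ℝ) (hc : 0 < c)
    (h : w.1 = c • v.1) : P.mk ξ v = P.mk ξ w := by
  have e := mk_glue (𝟙 n) ξ v w c hc (by rw [h, Groth.Agent.FanOre.realMap_id])
  simpa using e

theorem coneMap_comp {n : ICone} (ξ : F.obj (op n)) (f : F ⟶ G) :
    coneMap ξ ≫ f = coneMap (f.app _ ξ) :=
  uliftYonedaEquiv.injective (by simp [coneMap, uliftYonedaEquiv_comp])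

theorem exists_pullback_cone (f : F ⟶ G) (g : F' ⟶ G) {n : ICone} (a : F.obj (op n))
    (b : F'.obj (op n)) (h : f.app _ a = g.app _ b) :
    ∃ z : (pullback f g).obj (op n),
      (pullback.fst f g).app _ z = a ∧ (pullback.snd f g).app _ z = b := by
  refine ⟨uliftYonedaEquiv (pullback.lift (coneMap a) (coneMap b)
    (by rw [coneMap_comp, coneMap_comp, h])), ?_, ?_⟩
  · rw [← uliftYonedaEquiv_comp, pullback.lift_fst]
    simp [coneMap]
  · rw [← uliftYonedaEquiv_comp, pullback.lift_snd]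
    simp [coneMap]

theorem pullback_hom_ext {f : F ⟶ G} {g : F' ⟶ G} {n : ICone}
    {z z' : (pullback f g).obj (op n)}
    (h₁ : (pullback.fst f g).app _ z = (pullback.fst f g).app _ z')
    (h₂ : (pullback.snd f g).app _ z = (pullback.snd f g).app _ z') : z = z' := by
  apply uliftYonedaEquiv.symm.injective
  apply pullback.hom_ext <;> apply uliftYonedaEquiv.injective <;>
    rw [uliftYonedaEquiv_comp, uliftYonedaEquiv_comp, Equiv.apply_symm_apply,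
      Equiv.apply_symm_apply] <;> assumption

theorem exists_pullback_lift (f : F ⟶ G) (g : F' ⟶ G) (x : P F) (x' : P F')
    (h : P.map f x = P.map g x') :
    ∃ y : P (pullback f g),
      P.map (pullback.fst f g) y = x ∧ P.map (pullback.snd f g) y = x' := by
  obtain ⟨n, ξ, v, rfl⟩ := exists_mk x
  obtain ⟨n', ξ', v', rfl⟩ := exists_mk x'
  obtain ⟨k, φ, ψ, y, c, c', e, hc, hc', e1, e2⟩ := mk_eq h
  obtain ⟨z, hz1, hz2⟩ := exists_pullback_cone f g (F.map φ.op ξ) (F'.map ψ.op ξ')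
    (by rw [NatTrans.naturality_apply, NatTrans.naturality_apply]; exact e)
  exact ⟨P.mk z y, by rw [map_mk, hz1]; exact mk_glue φ ξ y v c hc e1,
    by rw [map_mk, hz2]; exact mk_glue ψ ξ' y v' c' hc' e2⟩

theorem range_map_eq (f : F ⟶ G) :
    Set.range (P.map f) = Set.range (P.map (Subfunctor.range f).ι) := by
  ext x
  constructor
  · rintro ⟨y, rfl⟩
    exact ⟨P.map (Subfunctor.toRange f) y, by rw [← map_comp, Subfunctor.toRange_ι]⟩
  · rintro ⟨y, rfl⟩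
    obtain ⟨n, ⟨ξ, a, ha⟩, v, rfl⟩ := exists_mk y
    refine ⟨P.mk a v, ?_⟩
    subst ha
    rfl

theorem range_map_snd (f : F ⟶ G) (g : F' ⟶ G) :
    Set.range (P.map (pullback.snd f g)) = P.map g ⁻¹' Set.range (P.map f) := by
  ext x
  constructor
  · rintro ⟨y, rfl⟩
    exact ⟨P.map (pullback.fst f g) y, by rw [← map_comp, ← map_comp, pullback.condition]⟩
  · rintro ⟨y, hy⟩
    obtain ⟨z, -, hz⟩ := exists_pullback_lift f g y x hy
    exact ⟨z, hz⟩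

theorem mk_mem_range {S : Subfunctor F} {n : ICone} {ξ : F.obj (op n)} (hξ : ξ ∈ S.obj (op n))
    (v : Orth n) : P.mk ξ v ∈ Set.range (P.map S.ι) :=
  ⟨P.mk (F := S.toFunctor) ⟨ξ, hξ⟩ v, rfl⟩

theorem exists_of_mem_range {S : Subfunctor F} {x : P F} (hx : x ∈ Set.range (P.map S.ι)) :
    ∃ (n : ICone) (ξ : F.obj (op n)) (v : Orth n), ξ ∈ S.obj (op n) ∧ P.mk ξ v = x := by
  obtain ⟨y, rfl⟩ := hx
  obtain ⟨n, ⟨ξ, hξ⟩, v, rfl⟩ := exists_mk y
  exact ⟨n, ξ, v, hξ, rfl⟩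

theorem isRealizable_inter {U V : Set (P F)} (hU : IsRealizable U) (hV : IsRealizable V) :
    IsRealizable (U ∩ V) := by
  obtain ⟨S, rfl⟩ := hU
  obtain ⟨T, rfl⟩ := hV
  refine ⟨S ⊓ T, Set.ext fun x => ⟨fun hx => ?_, fun hx => ?_⟩⟩
  · obtain ⟨hS, hT⟩ := hx
    obtain ⟨n, ξ, v, hξ, rfl⟩ := exists_of_mem_range hS
    obtain ⟨n', ξ', v', hξ', h⟩ := exists_of_mem_range hT
    obtain ⟨k, φ, ψ, y, c, c', e, hc, hc', e1, e2⟩ := mk_eq h.symm
    rw [← mk_glue φ ξ y v c hc e1]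
    have hT' : F.map φ.op ξ ∈ T.obj (op k) := by
      rw [e]
      exact T.map ψ.op hξ'
    exact mk_mem_range (ξ := F.map φ.op ξ) (S := S ⊓ T) ⟨S.map φ.op hξ, hT'⟩ y
  · obtain ⟨n, ξ, v, hξ, rfl⟩ := exists_of_mem_range hx
    exact ⟨mk_mem_range hξ.1 v, mk_mem_range hξ.2 v⟩

theorem isRealizable_iUnion {ι : Type u} (U : ι → Set (P F))
    (hU : ∀ i, IsRealizable (U i)) : IsRealizable (Set.iUnion U) := by
  choose S hS using hU
  refine ⟨⨆ i, S i, Set.ext fun x => ⟨fun hx => ?_, fun hx => ?_⟩⟩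
  · obtain ⟨i, hi⟩ := Set.mem_iUnion.mp hx
    rw [hS i] at hi
    obtain ⟨n, ξ, v, hξ, rfl⟩ := exists_of_mem_range hi
    refine mk_mem_range ?_ v
    rw [Subfunctor.iSup_obj]
    exact Set.mem_iUnion.mpr ⟨i, hξ⟩
  · obtain ⟨n, ξ, v, hξ, rfl⟩ := exists_of_mem_range hx
    rw [Subfunctor.iSup_obj, Set.mem_iUnion] at hξ
    obtain ⟨i, hi⟩ := hξ
    exact Set.mem_iUnion.mpr ⟨i, hS i ▸ mk_mem_range hi v⟩

theorem realMap_mem_orth {k n : ICone} (φ : k ⟶ n) (v : Orth k) :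
    (∀ j, 0 ≤ φ.realMap v.1 j) ∧ φ.realMap v.1 ≠ 0 := by
  have hnn : ∀ i j, (0 : ℝ) ≤ (φ.toLin (Pi.single i 1) j : ℝ) := fun i j => by
    exact_mod_cast φ.nonneg _ (fun l => by by_cases h : l = i <;> simp [h]) j
  refine ⟨fun j => Finset.sum_nonneg fun i _ => mul_nonneg (hnn i j) (v.2.1 i), fun h => ?_⟩
  obtain ⟨i, hi⟩ := Function.ne_iff.mp v.2.2
  have hz : φ.toLin (Pi.single i 1) = 0 := funext fun j => by
    have h1 : ∑ l, (φ.toLin (Pi.single l 1) j : ℝ) * v.1 l = 0 := congrFun h j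
    have h2 := (Finset.sum_eq_zero_iff_of_nonneg
      fun l _ => mul_nonneg (hnn l j) (v.2.1 l)).mp h1 i (Finset.mem_univ _)
    exact_mod_cast (mul_eq_zero.mp h2).resolve_right hi
  have := congrFun (φ.injective (hz.trans (map_zero _).symm)) i
  simp at this

theorem isBounded_yoneda (n : ICone) : IsBounded (uliftYoneda.{u}.obj n) := by
  refine ⟨{⟨n, ⟨𝟙 n⟩⟩}, fun x => ⟨_, Finset.mem_singleton_self _, ?_⟩⟩
  obtain ⟨k, ⟨φ⟩, v, rfl⟩ := exists_mk x
  refine ⟨⟨φ.realMap v.1, realMap_mem_orth φ v⟩, ?_⟩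
  refine Eq.trans (mk_glue (F := uliftYoneda.{u}.obj n) φ ⟨𝟙 n⟩ v
    ⟨φ.realMap v.1, realMap_mem_orth φ v⟩ 1 one_pos (one_smul ℝ _).symm).symm ?_
  congr 1

theorem coneMap_app {n k : ICone} (ξ : F.obj (op n)) (φ : k ⟶ n) :
    (coneMap ξ).app (op k) ⟨φ⟩ = F.map φ.op ξ := rfl

theorem isBoundedMap_of_isQuasiSeparated (hG : IsQuasiSeparated G) (f : F ⟶ G)
    (hF : IsBounded F) : IsBoundedMap f := by
  classical
  intro n σ
  obtain ⟨s, hs⟩ := hF
  choose t ht using fun e : (Σ n : ICone, F.obj (op n)) =>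
    hG e.1 n (f.app _ e.2) σ
  let hmap : ∀ e : (Σ n : ICone, F.obj (op n)),
      pullback (coneMap (f.app _ e.2)) (coneMap σ) ⟶ pullback f (coneMap σ) := fun e =>
    pullback.map _ _ _ _ (coneMap e.2) (𝟙 _) (𝟙 _)
      (by rw [Category.comp_id, coneMap_comp]) (by simp)
  refine ⟨s.biUnion fun e => (t e).image fun z => ⟨z.1, (hmap e).app _ z.2⟩, fun x => ?_⟩
  obtain ⟨k, z, v, rfl⟩ := exists_mk x
  obtain ⟨e, he, v₀, hv₀⟩ := hs (P.map (pullback.fst f (coneMap σ)) (P.mk z v))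
  obtain ⟨m, φ, ψ, w, c, c', heq, hc, hc', e1, -⟩ := mk_eq hv₀.symm
  let Pb := pullback f (coneMap σ)
  obtain ⟨b, hb⟩ : ∃ b, (pullback.snd f (coneMap σ)).app _ (Pb.map φ.op z) = b := ⟨_, rfl⟩
  have ha : (pullback.fst f (coneMap σ)).app _ (Pb.map φ.op z) = F.map ψ.op e.2 :=
    (NatTrans.naturality_apply (pullback.fst f (coneMap σ)) φ.op z).trans heq
  obtain ⟨q, hq1, hq2⟩ := exists_pullback_cone (coneMap (f.app _ e.2)) (coneMap σ)
    (⟨ψ⟩ : (uliftYoneda.{u}.obj e.1).obj (op m)) b (by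
      rw [coneMap_app, ← NatTrans.naturality_apply, ← ha, ← hb]
      exact congrArg (fun η : Pb ⟶ G => η.app _ (Pb.map φ.op z)) pullback.condition)
  have hqz : (hmap e).app _ q = Pb.map φ.op z := by
    apply pullback_hom_ext
    · have := congrArg (fun η : _ ⟶ F => η.app _ q)
        (pullback.lift_fst (pullback.fst (coneMap (f.app _ e.2)) (coneMap σ) ≫ coneMap e.2)
          (pullback.snd (coneMap (f.app _ e.2)) (coneMap σ) ≫ 𝟙 _)
          (by rw [Category.assoc, coneMap_comp, Category.comp_id, pullback.condition]) :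
          _ ≫ pullback.fst f (coneMap σ) = _)
      refine this.trans ?_
      rw [ha]
      show (coneMap e.2).app _ ((pullback.fst (coneMap (f.app _ e.2)) (coneMap σ)).app _ q) = _
      rw [hq1, coneMap_app]
    · have := congrArg (fun η : _ ⟶ uliftYoneda.{u}.obj n => η.app _ q)
        (pullback.lift_snd (pullback.fst (coneMap (f.app _ e.2)) (coneMap σ) ≫ coneMap e.2)
          (pullback.snd (coneMap (f.app _ e.2)) (coneMap σ) ≫ 𝟙 _)
          (by rw [Category.assoc, coneMap_comp, Category.comp_id, pullback.condition]) :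
          _ ≫ pullback.snd f (coneMap σ) = _)
      refine this.trans ?_
      rw [hb, ← hq2]
      rfl
  obtain ⟨e', he', v', hv'⟩ := ht e (P.mk q w)
  refine ⟨_, Finset.mem_biUnion.mpr ⟨e, he, Finset.mem_image.mpr ⟨e', he', rfl⟩⟩, v', ?_⟩
  calc P.mk ((hmap e).app _ e'.2) v' = P.map (hmap e) (P.mk e'.2 v') := rfl
    _ = P.map (hmap e) (P.mk q w) := by rw [hv']
    _ = P.mk (Pb.map φ.op z) w := by rw [map_mk, hqz]
    _ = P.mk z v := mk_glue φ z w v c hc e1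

theorem isQuasiSeparated_iff : IsQuasiSeparated G ↔
    ∀ (F : Fan.{u}) (f : F ⟶ G), IsBounded F → IsBoundedMap f :=
  ⟨fun h _ f hF => isBoundedMap_of_isQuasiSeparated h f hF,
    fun h n₀ n₁ σ₀ σ₁ => h _ (coneMap σ₀) (isBounded_yoneda n₀) n₁ σ₁⟩

theorem isLocallyConvex_iff (U : Set (P F)) : IsLocallyConvex U ↔
    ∀ (n : ICone) (ξ : F.obj (op n)),
      Convex ℝ {v : Fin n.dim → ℝ |
        ∃ h : (∀ i, 0 ≤ v i) ∧ v ≠ 0, P.mk ξ (⟨v, h⟩ : Orth n) ∈ U} := by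
  constructor
  · intro hU n ξ x hx y hy a b ha hb hab
    obtain ⟨hx1, hx2⟩ := hx
    obtain ⟨hy1, hy2⟩ := hy
    rcases ha.eq_or_lt with rfl | ha'
    · rw [zero_smul, zero_add, show b = 1 by linarith, one_smul]
      exact ⟨hy1, hy2⟩
    rcases hb.eq_or_lt with rfl | hb'
    · rw [zero_smul, add_zero, show a = 1 by linarith, one_smul]
      exact ⟨hx1, hx2⟩
    have h1 : ∀ i, 0 ≤ (a • x + b • y) i := fun i =>
      add_nonneg (mul_nonneg ha (hx1.1 i)) (mul_nonneg hb (hy1.1 i))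
    have h2 : a • x + b • y ≠ 0 := fun h => hx1.2 (funext fun i => by
      have e : a * x i + b * y i = 0 := congrFun h i
      have := mul_nonneg ha (hx1.1 i)
      have := mul_nonneg hb (hy1.1 i)
      exact (mul_eq_zero.mp (show a * x i = 0 by linarith)).resolve_left ha'.ne')
    exact ⟨⟨h1, h2⟩, hU n ξ ⟨x, hx1⟩ ⟨_, h1, h2⟩ ⟨y, hy1⟩ hx2 hy2 ⟨a, b, ha', hb', rfl⟩⟩
  · intro hU n ξ v₀ v₁ v₂ h0 h2 h
    obtain ⟨a, b, ha, hb, e⟩ := h
    obtain ⟨hm, hmU⟩ := hU n ξ (x := v₀.1) ⟨v₀.2, h0⟩ (y := v₂.1) ⟨v₂.2, h2⟩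
      (div_nonneg ha.le (add_pos ha hb).le) (div_nonneg hb.le (add_pos ha hb).le)
      (show a / (a + b) + b / (a + b) = 1 by rw [← add_div, div_self (add_pos ha hb).ne'])
    rwa [mk_smul ξ _ v₁ (a + b) (add_pos ha hb) ?_] at hmU
    show v₁.1 = (a + b) • ((a / (a + b)) • v₀.1 + (b / (a + b)) • v₂.1)
    rw [e, smul_add, smul_smul, smul_smul, mul_div_cancel₀ _ (add_pos ha hb).ne',
      mul_div_cancel₀ _ (add_pos ha hb).ne']

end Groth.Agent.FanBasicLib
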