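import Groth.Agent.FanBasicLib.Topo
import Groth.Prelude.Def_W4c6instabfans3FanCvx

/-!
# The projective realization of the fan of a finite family of rational polyhedral cones
-/

set_option autoImplicit false
set_option linter.unusedSectionVars false

open CategoryTheory Opposite Limits Instab Instab.Fan Filter Topology

namespace Groth.Agent.FanBasicLib.RFanEmbed

variable {N : ℕ}

/-- Real extension of an integral linear map. -/
def ext {d : ℕ} (l : (Fin d → ℤ) →ₗ[ℤ] (Fin N → ℤ)) (v : Fin d → ℝ) : Fin N → ℝ :=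
  fun j => ∑ i, (l (Pi.single i 1) j : ℝ) * v i

theorem ext_smul {d : ℕ} (l : (Fin d → ℤ) →ₗ[ℤ] (Fin N → ℤ)) (c : ℝ) (v : Fin d → ℝ) :
    ext l (c • v) = c • ext l v := by
  funext j
  simp only [ext, Pi.smul_apply, smul_eq_mul, Finset.mul_sum]
  exact Finset.sum_congr rfl fun i _ => by ring

theorem lin_eq_sum {d : ℕ} (l : (Fin d → ℤ) →ₗ[ℤ] (Fin N → ℤ)) (v : Fin d → ℤ) (j : Fin N) :
    l v j = ∑ i, l (Pi.single i 1) j * v i := by
  conv_lhs => rw [pi_eq_sum_univ' v]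
  simp only [map_sum, map_smul, Finset.sum_apply, Pi.smul_apply, smul_eq_mul]
  exact Finset.sum_congr rfl fun i _ => mul_comm _ _

theorem ext_cast {d : ℕ} (l : (Fin d → ℤ) →ₗ[ℤ] (Fin N → ℤ)) (v : Fin d → ℤ) :
    ext l (fun i => (v i : ℝ)) = fun j => (l v j : ℝ) := by
  funext j
  rw [lin_eq_sum l v j]
  simp [ext]

theorem ext_comp {k n : ICone} (l : (Fin n.dim → ℤ) →ₗ[ℤ] (Fin N → ℤ))
    (α : k ⟶ n) (v : Fin k.dim → ℝ) : ext (l.comp α.toLin) v = ext l (α.realMap v) := by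
  funext j
  simp only [ext, LinearMap.comp_apply, ICone.Hom.realMap]
  have h : ∀ i, l (α.toLin (Pi.single i 1)) j =
      ∑ p, l (Pi.single p 1) j * α.toLin (Pi.single i 1) p := fun i => lin_eq_sum l _ j
  simp only [h, Int.cast_sum, Int.cast_mul, Finset.sum_mul, Finset.mul_sum]
  rw [Finset.sum_comm]
  simp only [mul_assoc]

theorem ext_injective {d : ℕ} (l : (Fin d → ℤ) →ₗ[ℤ] (Fin N → ℤ)) (hl : Function.Injective l) :
    Function.Injective (ext l) := by
  classical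
  let A : Matrix (Fin N) (Fin d) ℤ := Matrix.of fun j i => l (Pi.single i 1) j
  let B : Matrix (Fin d) (Fin d) ℤ := A.transpose * A
  have hB : B.det ≠ 0 := by
    intro h
    obtain ⟨x, hx, hx0⟩ := Matrix.exists_mulVec_eq_zero_iff.mpr h
    have h1 : A.mulVec x = l x := funext fun j => by
      rw [lin_eq_sum]
      rfl
    have h2 : dotProduct (l x) (l x) = 0 := by
      rw [← h1, Matrix.dotProduct_mulVec, ← Matrix.mulVec_transpose, Matrix.mulVec_mulVec, hx0]
      simp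
    rw [dotProduct_self_eq_zero] at h2
    exact hx (hl (h2.trans (map_zero _).symm))
  intro a b hab
  have h0 : (A.map (Int.cast : ℤ → ℝ)).mulVec (a - b) = 0 := by
    have e : ∀ v, (A.map (Int.cast : ℤ → ℝ)).mulVec v = ext l v := fun v => rfl
    rw [Matrix.mulVec_sub, e, e]
    exact sub_eq_zero.mpr hab
  by_contra hne
  have : (B.map (Int.cast : ℤ → ℝ)).det = 0 := by
    refine Matrix.exists_mulVec_eq_zero_iff.mp ⟨a - b, sub_ne_zero.mpr hne, ?_⟩
    have e : B.map (Int.cast : ℤ → ℝ)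
        = (A.map (Int.cast : ℤ → ℝ)).transpose * A.map (Int.cast : ℤ → ℝ) := by
      simp only [B]
      rw [show (Int.cast : ℤ → ℝ) = ⇑(Int.castRingHom ℝ) from rfl, Matrix.map_mul,
        Matrix.transpose_map]
    rw [e, ← Matrix.mulVec_mulVec, h0, Matrix.mulVec_zero]
  rw [show B.map (Int.cast : ℤ → ℝ) = (Int.castRingHom ℝ).mapMatrix B from rfl,
    ← RingHom.map_det] at this
  exact hB (Int.cast_eq_zero.mp this)

theorem ext_ne_zero {n : ICone} (l : (Fin n.dim → ℤ) →ₗ[ℤ] (Fin N → ℤ)) (hl : Function.Injective l)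
    (v : Orth n) : ext l v.1 ≠ 0 := fun h =>
  v.2.2 (ext_injective l hl (h.trans (by funext j; simp [ext])))

/-- Common refinement of two simplicial cones in the same lattice through a common point. -/
theorem ore {n₁ n₂ : ICone} (φ : (Fin n₁.dim → ℤ) →ₗ[ℤ] (Fin N → ℤ))
    (ψ : (Fin n₂.dim → ℤ) →ₗ[ℤ] (Fin N → ℤ)) (hφ : Function.Injective φ) (hψ : Function.Injective ψ)
    (v₁ : Orth n₁) (v₂ : Orth n₂) (h : ext φ v₁.1 = ext ψ v₂.1) :
    ∃ (m : ICone) (α : m ⟶ n₁) (β : m ⟶ n₂) (w : Orth m),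
      φ.comp α.toLin = ψ.comp β.toLin ∧ α.realMap w.1 = v₁.1 ∧ β.realMap w.1 = v₂.1 := by
  classical
  let u : Fin n₁.dim ⊕ Fin n₂.dim → ℝ := Sum.elim v₁.1 v₂.1
  have hu : ∀ i, 0 ≤ u i := by
    rintro (i | i)
    · exact v₁.2.1 i
    · exact v₂.2.1 i
  have hne : u ≠ 0 := fun h0 => v₁.2.2 (funext fun i => congrFun h0 (Sum.inl i))
  obtain ⟨d, B, μ, hB, hμ, hsum, hind, hrel⟩ := Groth.Agent.FanOre.exists_simplicial u hu hne
  have hμne : μ ≠ 0 := fun h0 => hne (funext fun i => by simp [hsum i, h0])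
  have hd : 0 < d := by
    rcases Nat.eq_zero_or_pos d with rfl | hd
    · exact absurd (Subsingleton.elim μ 0) hμne
    · exact hd
  let lα : (Fin d → ℤ) →ₗ[ℤ] (Fin n₁.dim → ℤ) := Fintype.linearCombination ℤ (fun l i => B l (Sum.inl i))
  let lβ : (Fin d → ℤ) →ₗ[ℤ] (Fin n₂.dim → ℤ) := Fintype.linearCombination ℤ (fun l i => B l (Sum.inr i))
  have hcol : ∀ l, φ (fun i => B l (Sum.inl i)) = ψ (fun i => B l (Sum.inr i)) := by
    intro l
    funext j
    rw [lin_eq_sum φ, lin_eq_sum ψ]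
    have := hrel (Sum.elim (fun i => φ (Pi.single i 1) j) (fun i => -ψ (Pi.single i 1) j))
      (by
        have hj := congrFun h j
        simp only [ext] at hj
        simp [Fintype.sum_sum_type, u, hj]) l
    simp only [Fintype.sum_sum_type, Sum.elim_inl, Sum.elim_inr, neg_mul, Finset.sum_neg_distrib] at this
    linarith
  have hcomm : φ.comp lα = ψ.comp lβ := by
    refine LinearMap.ext fun x => ?_
    simp only [LinearMap.comp_apply, lα, lβ, Fintype.linearCombination_apply, map_sum, map_smul, hcol]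
  have key : ∀ x, lα x = 0 → lβ x = 0 → x = 0 := by
    intro x h1 h2
    apply hind
    rintro (i | i)
    · have := congrFun h1 i
      simpa [lα, Fintype.linearCombination_apply] using this
    · have := congrFun h2 i
      simpa [lβ, Fintype.linearCombination_apply] using this
  have hαi : Function.Injective lα := by
    refine (injective_iff_map_eq_zero lα).mpr fun x h1 => key x h1 (hψ ?_)
    have := LinearMap.congr_fun hcomm x
    simp only [LinearMap.comp_apply, h1, map_zero] at this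
    rw [map_zero, this]
  have hβi : Function.Injective lβ := by
    refine (injective_iff_map_eq_zero lβ).mpr fun x h1 => key x (hφ ?_) h1
    have := LinearMap.congr_fun hcomm x
    simp only [LinearMap.comp_apply, h1, map_zero] at this
    rw [map_zero, this]
  let mm : ICone := ⟨⟨d, hd⟩⟩
  have hαn : ∀ v : Fin d → ℤ, (∀ i, 0 ≤ v i) → ∀ j, 0 ≤ lα v j := fun v hv j => by
    simp only [lα, Fintype.linearCombination_apply, Finset.sum_apply, Pi.smul_apply, smul_eq_mul]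
    exact Finset.sum_nonneg fun l _ => mul_nonneg (hv l) (hB _ _)
  have hβn : ∀ v : Fin d → ℤ, (∀ i, 0 ≤ v i) → ∀ j, 0 ≤ lβ v j := fun v hv j => by
    simp only [lβ, Fintype.linearCombination_apply, Finset.sum_apply, Pi.smul_apply, smul_eq_mul]
    exact Finset.sum_nonneg fun l _ => mul_nonneg (hv l) (hB _ _)
  refine ⟨mm, ⟨lα, hαi, hαn⟩, ⟨lβ, hβi, hβn⟩, ⟨μ, hμ, hμne⟩, hcomm, ?_, ?_⟩
  · funext i
    show ∑ l : Fin d, ((lα (Pi.single l 1) i : ℤ) : ℝ) * μ l = v₁.1 i
    rw [show v₁.1 i = u (Sum.inl i) from rfl, hsum]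
    simp [lα, mul_comm]
  · funext i
    show ∑ l : Fin d, ((lβ (Pi.single l 1) i : ℤ) : ℝ) * μ l = v₂.1 i
    rw [show v₂.1 i = u (Sum.inr i) from rfl, hsum]
    simp [lβ, mul_comm]

/-- The cast of an integral vector. -/
abbrev cast (g : Fin N → ℤ) : Fin N → ℝ := fun j => (g j : ℝ)

/-- The rational polyhedral cone spanned by finitely many integral vectors. -/
def conicSpan (G : Finset (Fin N → ℤ)) : Set (Fin N → ℝ) :=
  {x | ∃ c : (Fin N → ℤ) → ℝ, (∀ g, 0 ≤ c g) ∧ x = Finset.sum G fun g => c g • fun j => (g j : ℝ)}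

/-- Carathéodory for rational cones. -/
theorem exists_indep (G : Finset (Fin N → ℤ)) {x : Fin N → ℝ} (hx : x ∈ conicSpan G) :
    ∃ T, T ⊆ G ∧ LinearIndependent ℤ (fun g : T => (g : Fin N → ℤ)) ∧
      ∃ c : (Fin N → ℤ) → ℝ, (∀ g, 0 ≤ c g) ∧ x = ∑ g ∈ T, c g • cast g := by
  classical
  obtain ⟨c₀, hc₀, hx⟩ := hx
  induction G using Finset.strongInduction generalizing c₀ with
  | H G ih =>
    by_cases hli : LinearIndependent ℤ (fun g : G => (g : Fin N → ℤ))
    · exact ⟨G, subset_rfl, hli, c₀, hc₀, hx⟩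
    obtain ⟨d, hd, ⟨g₀, hg₀⟩⟩ := Fintype.not_linearIndependent_iff.1 hli
    let e : (Fin N → ℤ) → ℤ := fun g => if h : g ∈ G then d ⟨g, h⟩ else 0
    have he : ∑ g ∈ G, e g • g = 0 := by
      rw [← Finset.sum_coe_sort]
      simpa [e] using hd
    -- fix the sign
    obtain ⟨f, hf, g₁, hg₁, hfg₁⟩ : ∃ f : (Fin N → ℤ) → ℤ,
        ∑ g ∈ G, f g • g = 0 ∧ ∃ g ∈ G, 0 < f g := by
      have h0 : e g₀.1 ≠ 0 := by simpa [e] using hg₀
      rcases lt_or_gt_of_ne h0 with h | h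
      · exact ⟨fun g => -e g, by simp only [neg_smul, Finset.sum_neg_distrib, he, neg_zero], g₀.1, g₀.2, by simpa using h⟩
      · exact ⟨e, he, g₀.1, g₀.2, h⟩
    obtain ⟨g₂, hg₂, hmin⟩ := Finset.exists_min_image (G.filter fun g => 0 < f g)
      (fun g => c₀ g / (f g : ℝ)) ⟨g₁, Finset.mem_filter.2 ⟨hg₁, hfg₁⟩⟩
    obtain ⟨hg₂G, hfg₂⟩ := Finset.mem_filter.1 hg₂
    have hfg₂' : (0 : ℝ) < f g₂ := by exact_mod_cast hfg₂
    set t := c₀ g₂ / (f g₂ : ℝ) with ht
    have ht0 : 0 ≤ t := div_nonneg (hc₀ _) hfg₂'.le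
    let c₁ : (Fin N → ℤ) → ℝ := fun g => if g ∈ G then c₀ g - t * f g else 0
    have hc₁ : ∀ g, 0 ≤ c₁ g := fun g => by
      by_cases hg : g ∈ G
      · simp only [c₁, if_pos hg, sub_nonneg]
        rcases le_or_gt (f g) 0 with hfg | hfg
        · exact (mul_nonpos_of_nonneg_of_nonpos ht0 (by exact_mod_cast hfg)).trans (hc₀ g)
        · exact (le_div_iff₀ (by exact_mod_cast hfg)).1 (hmin g (Finset.mem_filter.2 ⟨hg, hfg⟩))
      · simp [c₁, hg]
    have hz : c₁ g₂ = 0 := by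
      simp only [c₁, if_pos hg₂G, t]
      field_simp
      ring
    have hzero : ∑ g ∈ G, (f g : ℝ) • cast g = 0 := by
      funext j
      have h1 := congrFun hf j
      simp only [Finset.sum_apply, Pi.smul_apply, smul_eq_mul, Pi.zero_apply] at h1 ⊢
      exact_mod_cast h1
    have hx₁ : x = ∑ g ∈ G.erase g₂, c₁ g • cast g := by
      rw [Finset.sum_erase _ (by rw [hz, zero_smul]), hx]
      calc _ = ∑ g ∈ G, c₀ g • cast g - t • ∑ g ∈ G, (f g : ℝ) • cast g := by
            rw [hzero, smul_zero, sub_zero]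
        _ = _ := by
            rw [Finset.smul_sum, ← Finset.sum_sub_distrib]
            refine Finset.sum_congr rfl fun g hg => ?_
            simp only [c₁, if_pos hg, sub_smul, mul_smul]
    obtain ⟨T, hT, h⟩ := ih _ (Finset.erase_ssubset hg₂G) c₁ hc₁ hx₁
    exact ⟨T, hT.trans (Finset.erase_subset _ _), h⟩

variable {ι : Type} (K : ι → Set (Fin N → ℝ))

theorem toVec_eq {n : ICone} (φ : RFan.Cone K n) (v : Fin n.dim → ℝ) :
    RFan.toVec K n φ v = ext φ.1 v := rfl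

theorem conicSpan_smul {G : Finset (Fin N → ℤ)} {x : Fin N → ℝ} (hx : x ∈ conicSpan G) {c : ℝ}
    (hc : 0 ≤ c) : c • x ∈ conicSpan G := by
  obtain ⟨d, hd, rfl⟩ := hx
  exact ⟨fun g => c * d g, fun g => mul_nonneg hc (hd g), by simp [Finset.smul_sum, mul_smul]⟩

/-- The simplicial cone of an independent nonempty set of integral vectors. -/
theorem exists_cone_of_indep {G T : Finset (Fin N → ℤ)} (hT : T ⊆ G) (hne : T.Nonempty)
    (hli : LinearIndependent ℤ (fun g : T => (g : Fin N → ℤ))) :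
    ∃ (n : ICone) (l : (Fin n.dim → ℤ) →ₗ[ℤ] (Fin N → ℤ)), Function.Injective l ∧
      (∀ v : Fin n.dim → ℝ, (∀ i, 0 ≤ v i) → ext l v ∈ conicSpan G) ∧
      ∀ c : (Fin N → ℤ) → ℝ, (∀ g, 0 ≤ c g) → ∑ g ∈ T, c g • cast g ≠ 0 →
        ∃ v : Orth n, ext l v.1 = ∑ g ∈ T, c g • cast g := by
  classical
  let n : ICone := ⟨⟨T.card, Finset.card_pos.2 hne⟩⟩
  let E : Fin n.dim ≃ T := T.equivFin.symm
  let l : (Fin n.dim → ℤ) →ₗ[ℤ] (Fin N → ℤ) := Fintype.linearCombination ℤ fun i => (E i : Fin N → ℤ)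
  have hext : ∀ v : Fin n.dim → ℝ, ext l v = ∑ g : T, v (E.symm g) • cast g.1 := fun v => by
    funext j
    rw [← E.sum_comp]
    simp [ext, l, Finset.sum_apply, mul_comm]
  have hl : Function.Injective l :=
    (hli.comp E E.injective).fintypeLinearCombination_injective
  refine ⟨n, l, hl, fun v hv => ?_, fun c hc hs => ?_⟩
  · refine ⟨fun g => if h : g ∈ T then v (E.symm ⟨g, h⟩) else 0, fun g => ?_, ?_⟩
    · dsimp only
      split_ifs
      exacts [hv _, le_rfl]
    · rw [hext, ← Finset.sum_subset hT (fun g _ hg => by simp [hg]), ← Finset.sum_coe_sort T]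
      exact Finset.sum_congr rfl fun g _ => by simp
  · have h1 : ext l (fun i => c (E i).1) = ∑ g ∈ T, c g • cast g := by
      rw [hext, ← Finset.sum_coe_sort T]
      exact Finset.sum_congr rfl fun g _ => by simp
    exact ⟨⟨fun i => c (E i).1, fun i => hc _, fun h0 => hs (by rw [← h1, h0]; funext j; simp [ext])⟩, h1⟩

/-- Finitely many simplices covering `K a`. -/
theorem exists_cover {m : ℕ} {gen : Fin m → Finset (Fin N → ℤ)} {a : ι}
    (hK : K a = Set.iUnion fun l => conicSpan (gen l)) :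
    ∃ C : Set (Σ n : ICone, RFan.Cone K n), C.Finite ∧
      (∀ e ∈ C, ∀ v : Orth e.1, RFan.toVec K e.1 e.2 v.1 ∈ K a) ∧
      ∀ w ∈ K a, w ≠ 0 → ∃ e ∈ C, ∃ v : Orth e.1, RFan.toVec K e.1 e.2 v.1 = w := by
  classical
  let J := {p : (Σ l : Fin m, (gen l).powerset) //
    p.2.1.Nonempty ∧ LinearIndependent ℤ (fun g : p.2.1 => (g : Fin N → ℤ))}
  have h := fun p : J => exists_cone_of_indep (Finset.mem_powerset.1 p.1.2.2) p.2.1 p.2.2
  choose n l hl hin hcov using h
  have hmem : ∀ (p : J) (v : Fin (n p).dim → ℝ), (∀ i, 0 ≤ v i) → ext (l p) v ∈ K a := fun p v hv =>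
    hK ▸ Set.mem_iUnion.2 ⟨p.1.1, hin p v hv⟩
  let cone : J → Σ n : ICone, RFan.Cone K n := fun p => ⟨n p, l p, hl p, a, fun v hv => by
    rw [← ext_cast]
    exact hmem p _ fun i => by exact_mod_cast hv i⟩
  refine ⟨Set.range cone, Set.finite_range cone, ?_, fun w hw hw0 => ?_⟩
  · rintro _ ⟨p, rfl⟩ v
    exact hmem p v.1 v.2.1
  · rw [hK] at hw
    obtain ⟨i, hi⟩ := Set.mem_iUnion.1 hw
    obtain ⟨T, hT, hli, c, hc, rfl⟩ := exists_indep _ hi
    have hne : T.Nonempty := by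
      rcases T.eq_empty_or_nonempty with rfl | h
      · simp at hw0
      · exact h
    let p : J := ⟨⟨i, T, Finset.mem_powerset.2 hT⟩, hne, hli⟩
    obtain ⟨v, hv⟩ := hcov p c hc hw0
    exact ⟨cone p, ⟨p, rfl⟩, v, hv⟩

/-- The ray of a non-zero vector. -/
def ray (v : {v : Fin N → ℝ // v ≠ 0}) : Rays N := Quot.mk _ v

theorem continuous_ray : Continuous (ray : {v : Fin N → ℝ // v ≠ 0} → Rays N) := continuous_quot_mk

theorem sum_abs_pos (v : {v : Fin N → ℝ // v ≠ 0}) : 0 < ∑ i, |v.1 i| := by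
  obtain ⟨i, hi⟩ := Function.ne_iff.1 v.2
  exact Finset.sum_pos' (fun j _ => abs_nonneg _) ⟨i, Finset.mem_univ i, abs_pos.2 hi⟩

/-- A model of the sphere. -/
noncomputable def normRay : Rays N → Fin N → ℝ :=
  Quot.lift (fun v => (∑ i, |v.1 i|)⁻¹ • v.1) (by
    rintro v w ⟨c, hc, h⟩
    simp only [h, Pi.smul_apply, smul_eq_mul, abs_mul, abs_of_pos hc, ← Finset.mul_sum, smul_smul,
      mul_inv]
    congr 1
    rw [mul_comm c⁻¹, mul_assoc, inv_mul_cancel₀ hc.ne', mul_one])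

theorem normRay_injective : Function.Injective (normRay : Rays N → _) := by
  intro r s
  induction r using Quot.ind with
  | mk v =>
    induction s using Quot.ind with
    | mk w =>
      intro h
      refine Quot.sound ⟨(∑ i, |w.1 i|) * (∑ i, |v.1 i|)⁻¹,
        mul_pos (sum_abs_pos w) (inv_pos.2 (sum_abs_pos v)), ?_⟩
      have h' : (∑ i, |v.1 i|)⁻¹ • v.1 = (∑ i, |w.1 i|)⁻¹ • w.1 := h
      rw [mul_smul, h', smul_inv_smul₀ (sum_abs_pos w).ne']

theorem continuous_normRay : Continuous (normRay : Rays N → _) :=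
  continuous_quot_lift _ (((continuous_finsetSum _ fun i _ =>
    ((continuous_apply i).comp continuous_subtype_val).abs).inv₀ fun v => (sum_abs_pos v).ne').smul
      continuous_subtype_val)

instance : T2Space (Rays N) := .of_injective_continuous normRay_injective continuous_normRay

theorem exists_ray_map :
    ∃ g : Fan.P (RFan K) → Fan.Rays N, (∀ (n : ICone) (φ : (RFan K).obj (op n)) (v : Orth n)
      (h : RFan.toVec K n φ v.1 ≠ 0), g (P.mk φ v) = Quot.mk _ ⟨RFan.toVec K n φ v.1, h⟩) ∧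
      Continuous g := by
  refine ⟨Quot.lift (fun p => ray ⟨RFan.toVec K p.1.1 p.1.2 p.2.1, ext_ne_zero p.1.2.1 p.1.2.2.1 p.2⟩)
    ?_, fun n φ v h => rfl, ?_⟩
  · rintro _ _ ⟨ψ, ξ, v, w, c, hc, h⟩
    refine Quot.sound ⟨c, hc, ?_⟩
    show ext ξ.1 w.1 = c • ext (ξ.1.comp ψ.toLin) v.1
    rw [ext_comp, h, ext_smul]
  · refine continuous_quot_lift _ (continuous_sigma fun e => continuous_ray.comp ?_)
    have hc : Continuous fun v : Orth e.1 => RFan.toVec K e.1 e.2 v.1 :=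
      continuous_pi fun j => continuous_finsetSum _ fun i _ =>
        continuous_const.mul ((continuous_apply i).comp continuous_val_orth)
    exact hc.subtype_mk _

theorem isEmbedding [Finite ι]
    (hK : ∀ a, ∃ (m : ℕ) (gen : Fin m → Finset (Fin N → ℤ)),
      K a = Set.iUnion fun l => conicSpan (gen l)) :
    ∃ g : Fan.P (RFan K) → Fan.Rays N,
      (∀ (n : ICone) (φ : (RFan K).obj (op n)) (v : Orth n) (h : RFan.toVec K n φ v.1 ≠ 0),
        g (P.mk φ v) = Quot.mk _ ⟨RFan.toVec K n φ v.1, h⟩) ∧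
      Topology.IsEmbedding g ∧
      Set.range g = {r | ∃ w : {w : Fin N → ℝ // w ≠ 0}, r = Quot.mk _ w ∧ w.1 ∈ Set.iUnion K} := by
  classical
  obtain ⟨g, hg, hgc⟩ := exists_ray_map K
  have hg' : ∀ (n : ICone) (φ : RFan.Cone K n) (v : Orth n),
      g (P.mk (F := RFan K) φ v) = ray ⟨ext φ.1 v.1, ext_ne_zero φ.1 φ.2.1 v⟩ :=
    fun n φ v => hg n φ v _
  have hinj : Function.Injective g := by
    intro x x' hxx
    obtain ⟨n, φ, v, rfl⟩ := exists_mk x
    obtain ⟨n', φ', v', rfl⟩ := exists_mk x'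
    rw [hg', hg'] at hxx
    have h1 := congrArg normRay hxx
    simp only [normRay, ray] at h1
    set S := ∑ i, |ext φ.1 v.1 i| with hS
    set S' := ∑ i, |ext φ'.1 v'.1 i| with hS'
    have hSpos : 0 < S := sum_abs_pos ⟨_, ext_ne_zero φ.1 φ.2.1 v⟩
    have hSpos' : 0 < S' := sum_abs_pos ⟨_, ext_ne_zero φ'.1 φ'.2.1 v'⟩
    let u : Orth n := ⟨S⁻¹ • v.1, fun i => mul_nonneg (inv_pos.2 hSpos).le (v.2.1 i),
      smul_ne_zero (inv_pos.2 hSpos).ne' v.2.2⟩
    let u' : Orth n' := ⟨S'⁻¹ • v'.1, fun i => mul_nonneg (inv_pos.2 hSpos').le (v'.2.1 i),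
      smul_ne_zero (inv_pos.2 hSpos').ne' v'.2.2⟩
    have hu : ext φ.1 u.1 = ext φ'.1 u'.1 := by
      simp only [u, u', ext_smul]
      exact h1
    obtain ⟨m, α, β, w, hcomm, hw1, hw2⟩ := ore φ.1 φ'.1 φ.2.1 φ'.2.1 u u' hu
    have e : (RFan K).map α.op φ = (RFan K).map β.op φ' := Subtype.ext hcomm
    rw [mk_smul φ v u _ (inv_pos.2 hSpos) rfl, mk_smul φ' v' u' _ (inv_pos.2 hSpos') rfl,
      ← mk_glue α φ w u 1 one_pos (by rw [one_smul, hw1]),
      ← mk_glue β φ' w u' 1 one_pos (by rw [one_smul, hw2]), e]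
  choose m gen hgen using hK
  have h := fun a => exists_cover K (hgen a)
  choose C hCf hCin hCcov using h
  let cell : (Σ n : ICone, RFan.Cone K n) → Set (Fan.P (RFan K)) := fun e =>
    Set.range fun x => P.mk (F := RFan K) e.2 (ofSimplex e.1 x)
  let S : ι → Set (Rays N) := fun a => g '' ⋃ e ∈ C a, cell e
  have hcell : ∀ (e : Σ n : ICone, RFan.Cone K n) (v : Orth e.1), P.mk (F := RFan K) e.2 v ∈ cell e :=
    fun e v => ⟨⟨normalize v, normalize_mem v⟩,
      (mk_smul (F := RFan K) e.2 v (unit v) _ (inv_pos.mpr (sum_pos_orth v)) rfl).symm⟩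
  have hcompact : ∀ a, IsCompact (⋃ e ∈ C a, cell e) := fun a =>
    (hCf a).isCompact_biUnion fun e _ => by
      have : CompactSpace (stdSimplex ℝ (Fin e.1.dim)) :=
        isCompact_iff_compactSpace.mp (isCompact_stdSimplex ℝ (Fin e.1.dim))
      exact isCompact_range ((continuous_mk _).comp continuous_ofSimplex)
  have hSclosed : ∀ a, IsClosed (S a) := fun a => ((hcompact a).image hgc).isClosed
  -- rays in `K a` come from the covering simplices
  have hray : ∀ (a : ι) (w : {w : Fin N → ℝ // w ≠ 0}), w.1 ∈ K a → ray w ∈ S a := by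
    intro a w hw
    obtain ⟨e, he, v, hv⟩ := hCcov a w.1 hw w.2
    refine ⟨P.mk (F := RFan K) e.2 v, Set.mem_biUnion he (hcell e v), ?_⟩
    rw [hg']
    exact congrArg ray (Subtype.ext hv)
  -- the vectors of a cone lie in the rays of some `K a`
  have hmem : ∀ x, ∃ a, g x ∈ S a := by
    intro x
    obtain ⟨n, φ, v, rfl⟩ := exists_mk x
    obtain ⟨a, ha⟩ := φ.2.2
    refine ⟨a, forall_of_rational (S := {v : Orth n | g (P.mk φ v) ∈ S a})
      ((hSclosed a).preimage (hgc.comp (continuous_mk φ))) ?_ v⟩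
    rintro w ⟨q, c, hc, hq⟩
    have hq0 : ∀ i, 0 ≤ q i := fun i => by
      have := w.2.1 i
      rw [hq] at this
      simp only [Pi.smul_apply, smul_eq_mul] at this
      exact_mod_cast (mul_nonneg_iff_of_pos_left hc).mp this
    have he : ext φ.1 w.1 = c • cast (φ.1 q) := by rw [hq, ext_smul, ext_cast]
    have hne : cast (φ.1 q) ≠ 0 := fun h0 => ext_ne_zero φ.1 φ.2.1 w (by rw [he, h0, smul_zero])
    show g (P.mk φ w) ∈ S a
    rw [hg']
    have : ray ⟨_, hne⟩ = ray ⟨ext φ.1 w.1, ext_ne_zero φ.1 φ.2.1 w⟩ := Quot.sound ⟨c, hc, he⟩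
    rw [← this]
    exact hray a _ (ha q hq0)
  have : CompactSpace (Fan.P (RFan K)) := by
    refine ⟨?_⟩
    have : (Set.univ : Set (Fan.P (RFan K))) = ⋃ a, ⋃ e ∈ C a, cell e := by
      refine (Set.eq_univ_of_forall fun x => ?_).symm
      obtain ⟨a, y, hy, hxy⟩ := hmem x
      exact Set.mem_iUnion.2 ⟨a, hinj hxy ▸ hy⟩
    rw [this]
    exact isCompact_iUnion hcompact
  refine ⟨g, hg, (hgc.isClosedEmbedding hinj).isEmbedding, Set.ext fun r => ⟨?_, ?_⟩⟩
  · rintro ⟨x, rfl⟩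
    obtain ⟨a, y, hy, hxy⟩ := hmem x
    obtain ⟨e, he, z, rfl⟩ := Set.mem_iUnion₂.1 hy
    exact ⟨_, hxy.symm.trans (hg' _ _ _), Set.mem_iUnion.2 ⟨a, hCin a e he (ofSimplex e.1 z)⟩⟩
  · rintro ⟨w, rfl, hw⟩
    obtain ⟨a, ha⟩ := Set.mem_iUnion.1 hw
    obtain ⟨y, -, hy⟩ := hray a w ha
    exact ⟨y, hy⟩

end Groth.Agent.FanBasicLib.RFanEmbed
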