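import Groth.Agent.FanBasicLib.Basic
import Mathlib.Analysis.Convex.StdSimplex
import Mathlib.LinearAlgebra.Matrix.ToLinearEquiv
import Mathlib.Topology.Sequences
import Mathlib.Topology.Maps.Basic
import Mathlib.Algebra.Order.Floor.Semiring
import Mathlib.LinearAlgebra.Matrix.DotProduct
import Mathlib.Data.Nat.Nth
import Mathlib.Tactic

/-!
Topology of the projective realization of a formal fan.
-/

universe u v

open CategoryTheory Opposite Limits Instab Instab.Fan Filter Topology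

namespace Groth.Agent.FanBasicLib

variable {n k : ICone}

theorem sum_pos_orth (v : Orth n) : 0 < ∑ i, v.1 i := by
  obtain ⟨i, hi⟩ := Function.ne_iff.mp v.2.2
  exact Finset.sum_pos' (fun j _ => v.2.1 j)
    ⟨i, Finset.mem_univ _, lt_of_le_of_ne (v.2.1 i) (Ne.symm hi)⟩

/-- Normalisation to coordinate sum one. -/
noncomputable def normalize (v : Orth n) : Fin n.dim → ℝ := (∑ i, v.1 i)⁻¹ • v.1

theorem continuous_val_orth : Continuous (fun v : Orth n => v.1) := continuous_subtype_val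

theorem continuous_normalize : Continuous (normalize : Orth n → _) :=
  ((continuous_finsetSum _ fun i _ =>
    (continuous_apply i).comp continuous_val_orth).inv₀ fun v => (sum_pos_orth v).ne').smul
      continuous_val_orth

theorem normalize_smul (v : Orth n) : v.1 = (∑ i, v.1 i) • normalize v :=
  (smul_inv_smul₀ (sum_pos_orth v).ne' _).symm

theorem normalize_eq_iff (v w : Orth n) :
    normalize v = normalize w ↔ ∃ c : ℝ, 0 < c ∧ w.1 = c • v.1 := by
  constructor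
  · intro h
    refine ⟨(∑ i, w.1 i) * (∑ i, v.1 i)⁻¹, mul_pos (sum_pos_orth w) (inv_pos.mpr (sum_pos_orth v)),
      ?_⟩
    conv_lhs => rw [normalize_smul w, ← h, normalize, smul_smul]
  · rintro ⟨c, hc, h⟩
    simp only [normalize, h, Pi.smul_apply, smul_eq_mul, ← Finset.mul_sum, smul_smul, mul_inv]
    congr 1
    rw [mul_comm c⁻¹, mul_assoc, inv_mul_cancel₀ hc.ne', mul_one]

theorem normalize_mem (v : Orth n) : normalize v ∈ stdSimplex ℝ (Fin n.dim) :=
  ⟨fun i => mul_nonneg (inv_nonneg.mpr (sum_pos_orth v).le) (v.2.1 i), by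
    simp only [normalize, Pi.smul_apply, smul_eq_mul, ← Finset.mul_sum]
    exact inv_mul_cancel₀ (sum_pos_orth v).ne'⟩

/-- The point of the orthant given by a point of the standard simplex. -/
def ofSimplex (n : ICone) (x : stdSimplex ℝ (Fin n.dim)) : Orth n :=
  ⟨x.1, x.2.1, fun h => by
    have := x.2.2
    simp [h] at this⟩

theorem continuous_ofSimplex : Continuous (ofSimplex n) :=
  continuous_subtype_val.subtype_mk _

/-- The normalised vector as a point of the orthant. -/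
noncomputable def unit (v : Orth n) : Orth n := ofSimplex n ⟨normalize v, normalize_mem v⟩

theorem continuous_realMap (φ : k ⟶ n) : Continuous (fun v : Fin k.dim → ℝ => φ.realMap v) :=
  continuous_pi fun _ => continuous_finsetSum _ fun i _ =>
    continuous_const.mul (continuous_apply i)

/-- The image of a point of the orthant under a cone morphism. -/
noncomputable def push (φ : k ⟶ n) (v : Orth k) : Orth n :=
  ⟨φ.realMap v.1, realMap_mem_orth φ v⟩

theorem continuous_push (φ : k ⟶ n) : Continuous (push φ) :=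
  ((continuous_realMap φ).comp continuous_val_orth).subtype_mk _

/-- Invariance under positive rescaling. -/
def Inv (T : Set (Orth n)) : Prop :=
  ∀ v w : Orth n, v ∈ T → ∀ c : ℝ, 0 < c → w.1 = c • v.1 → w ∈ T

theorem isClosed_scaled (φ : k ⟶ n) {T : Set (Orth k)} (hT : IsClosed T) (hinv : Inv T) :
    IsClosed {v : Orth n | ∃ y ∈ T, ∃ c : ℝ, 0 < c ∧ v.1 = c • φ.realMap y.1} := by
  have hK : IsCompact ((fun x => normalize (push φ (ofSimplex k x))) '' (ofSimplex k ⁻¹' T)) := by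
    have : CompactSpace (stdSimplex ℝ (Fin k.dim)) :=
      isCompact_iff_compactSpace.mp (isCompact_stdSimplex ℝ (Fin k.dim))
    exact ((hT.preimage continuous_ofSimplex).isCompact).image
      (continuous_normalize.comp ((continuous_push φ).comp continuous_ofSimplex))
  convert hK.isClosed.preimage continuous_normalize using 1
  ext v
  constructor
  · rintro ⟨y, hy, c, hc, hv⟩
    refine ⟨⟨normalize y, normalize_mem y⟩,
      hinv y (unit y) hy _ (inv_pos.mpr (sum_pos_orth y)) rfl, ?_⟩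
    rw [normalize_eq_iff]
    refine ⟨c * ∑ i, y.1 i, mul_pos hc (sum_pos_orth y), ?_⟩
    show v.1 = (c * ∑ i, y.1 i) • φ.realMap (normalize y)
    rw [hv, mul_smul, ← Groth.Agent.FanOre.realMap_smul φ (∑ i, y.1 i), ← normalize_smul y]
  · rintro ⟨x, hx, h⟩
    obtain ⟨c, hc, e⟩ := (normalize_eq_iff _ _).mp h
    exact ⟨_, hx, c, hc, e⟩

theorem realMap_injective (φ : k ⟶ n) :
    Function.Injective (fun v : Fin k.dim → ℝ => φ.realMap v) := by
  classical
  let A : Matrix (Fin n.dim) (Fin k.dim) ℤ := Matrix.of fun j i => φ.toLin (Pi.single i 1) j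
  let B : Matrix (Fin k.dim) (Fin k.dim) ℤ := A.transpose * A
  have hB : B.det ≠ 0 := by
    intro h
    obtain ⟨x, hx, hx0⟩ := Matrix.exists_mulVec_eq_zero_iff.mpr h
    have h1 : A.mulVec x = φ.toLin x := funext fun j => by
      rw [Groth.Agent.FanOre.toLin_eq_sum]
      rfl
    have h2 : dotProduct (φ.toLin x) (φ.toLin x) = 0 := by
      rw [← h1, Matrix.dotProduct_mulVec, ← Matrix.mulVec_transpose, Matrix.mulVec_mulVec, hx0]
      simp
    rw [dotProduct_self_eq_zero] at h2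
    exact hx (φ.injective (h2.trans (map_zero _).symm))
  intro a b hab
  have h0 : (A.map (Int.cast : ℤ → ℝ)).mulVec (a - b) = 0 := by
    have e : ∀ v, (A.map (Int.cast : ℤ → ℝ)).mulVec v = φ.realMap v := fun v => rfl
    rw [Matrix.mulVec_sub, e, e]
    exact sub_eq_zero.mpr hab
  by_contra hne
  have : (B.map (Int.cast : ℤ → ℝ)).det = 0 := by
    refine Matrix.exists_mulVec_eq_zero_iff.mp ⟨a - b, sub_ne_zero.mpr hne, ?_⟩
    have e : B.map (Int.cast : ℤ → ℝ)
        = (A.map (Int.cast : ℤ → ℝ)).transpose * A.map (Int.cast : ℤ → ℝ) := by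
      simp only [B]
      rw [show (Int.cast : ℤ → ℝ) = ⇑(Int.castRingHom ℝ) from rfl, Matrix.map_mul,
        Matrix.transpose_map]
    rw [e, ← Matrix.mulVec_mulVec, h0, Matrix.mulVec_zero]
  rw [show B.map (Int.cast : ℤ → ℝ) = (Int.castRingHom ℝ).mapMatrix B from rfl,
    ← RingHom.map_det] at this
  exact hB (Int.cast_eq_zero.mp this)

variable {F G : Fan.{u}}

theorem isClosed_P_iff (S : Set (P F)) :
    IsClosed S ↔ ∀ (n : ICone) (ξ : F.obj (op n)), IsClosed {v : Orth n | P.mk ξ v ∈ S} := by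
  refine ((isQuotientMap_quot_mk (r := Rel F)).isClosed_preimage).symm.trans ?_
  refine (isClosed_sigma_iff (σ := fun e : (Σ n : ICone, F.obj (op n)) => Orth e.1)).trans ?_
  exact ⟨fun h n ξ => h ⟨n, ξ⟩, fun h e => h e.1 e.2⟩

theorem continuous_mk {n : ICone} (ξ : F.obj (op n)) : Continuous (P.mk ξ) :=
  (continuous_quot_mk (r := Rel F)).comp
    (continuous_sigmaMk (σ := fun e : (Σ n : ICone, F.obj (op n)) => Orth e.1) (i := ⟨n, ξ⟩))

theorem continuous_map (f : F ⟶ G) : Continuous (P.map f) := by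
  refine continuous_quot_lift _ (continuous_quot_mk.comp ?_)
  exact continuous_sigma fun e => continuous_sigmaMk
    (σ := fun e : (Σ n : ICone, G.obj (op n)) => Orth e.1) (i := ⟨e.1, f.app _ e.2⟩)

theorem mk_eq_of_push (φ : k ⟶ n) (ξ : F.obj (op n)) (y : Orth k) (v : Orth n) (c : ℝ)
    (hc : 0 < c) (h : v.1 = c • φ.realMap y.1) : P.mk (F.map φ.op ξ) y = P.mk ξ v :=
  mk_glue φ ξ y v c hc h

/-- Two points of `h_[n]` agree iff their rays in the orthant agree (one direction). -/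
theorem yoneda_mk_eq {n k k' : ICone} {φ : k ⟶ n} {φ' : k' ⟶ n} {y : Orth k} {y' : Orth k'}
    (h : P.mk (F := uliftYoneda.{u}.obj n) (⟨φ⟩ : (uliftYoneda.{u}.obj n).obj (op k)) y
      = P.mk (F := uliftYoneda.{u}.obj n) (⟨φ'⟩ : (uliftYoneda.{u}.obj n).obj (op k')) y') :
    ∃ c : ℝ, 0 < c ∧ φ.realMap y.1 = c • φ'.realMap y'.1 := by
  obtain ⟨m, α, β, w, c, d, e, hc, hd, e1, e2⟩ := mk_eq h
  have e' : α ≫ φ = β ≫ φ' := congrArg ULift.down e
  refine ⟨c / d, div_pos hc hd, ?_⟩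
  rw [e1, e2, Groth.Agent.FanOre.realMap_smul, Groth.Agent.FanOre.realMap_smul,
    ← Groth.Agent.FanOre.realMap_comp, ← Groth.Agent.FanOre.realMap_comp, e', smul_smul,
    div_mul_cancel₀ _ hd.ne']

/-- Finitely many pairs of cone morphisms describing when two cones give the same point. -/
theorem exists_pairs (hG : IsQuasiSeparated G) {n n' : ICone} (ξ : G.obj (op n))
    (ξ' : G.obj (op n')) :
    ∃ s : Finset (Σ k : ICone, (k ⟶ n) × (k ⟶ n')),
      (∀ e ∈ s, G.map e.2.1.op ξ = G.map e.2.2.op ξ') ∧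
      ∀ (v : Orth n) (w : Orth n'), P.mk ξ v = P.mk ξ' w ↔
        ∃ e ∈ s, ∃ (y : Orth e.1) (c c' : ℝ), 0 < c ∧ 0 < c' ∧
          v.1 = c • e.2.1.realMap y.1 ∧ w.1 = c' • e.2.2.realMap y.1 := by
  classical
  obtain ⟨s, hs⟩ := hG n n' ξ ξ'
  let Pb := pullback (coneMap ξ) (coneMap ξ')
  let g : (Σ k : ICone, Pb.obj (op k)) → (Σ k : ICone, (k ⟶ n) × (k ⟶ n')) := fun e =>
    ⟨e.1, ((pullback.fst (coneMap ξ) (coneMap ξ')).app _ e.2).down,
      ((pullback.snd (coneMap ξ) (coneMap ξ')).app _ e.2).down⟩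
  have hg : ∀ e, G.map (g e).2.1.op ξ = G.map (g e).2.2.op ξ' := fun e =>
    congrArg (fun η : Pb ⟶ G => η.app _ e.2) pullback.condition
  refine ⟨s.image g, fun e he => ?_, fun v w => ⟨fun h => ?_, ?_⟩⟩
  · obtain ⟨z, -, rfl⟩ := Finset.mem_image.mp he
    exact hg z
  · obtain ⟨m, α, β, u, c, d, e, hc, hd, e1, e2⟩ := mk_eq h
    obtain ⟨q, hq1, hq2⟩ := exists_pullback_cone (coneMap ξ) (coneMap ξ')
      (⟨α⟩ : (uliftYoneda.{u}.obj n).obj (op m)) ⟨β⟩ e
    obtain ⟨z, hz, y, hy⟩ := hs (P.mk q u)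
    have h1 := congrArg (P.map (pullback.fst (coneMap ξ) (coneMap ξ'))) hy
    have h2 := congrArg (P.map (pullback.snd (coneMap ξ) (coneMap ξ'))) hy
    rw [map_mk, map_mk, hq1] at h1
    rw [map_mk, map_mk, hq2] at h2
    obtain ⟨c1, hc1, f1⟩ := yoneda_mk_eq h1.symm
    obtain ⟨d1, hd1, f2⟩ := yoneda_mk_eq h2.symm
    refine ⟨g z, Finset.mem_image_of_mem g hz, y, c * c1, d * d1, mul_pos hc hc1, mul_pos hd hd1,
      ?_, ?_⟩
    · rw [e1, f1, smul_smul]
      rfl
    · rw [e2, f2, smul_smul]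
      rfl
  · rintro ⟨e, he, y, c, c', hc, hc', e1, e2⟩
    obtain ⟨z, -, rfl⟩ := Finset.mem_image.mp he
    rw [← mk_glue _ ξ y v c hc e1, ← mk_glue _ ξ' y w c' hc' e2, hg z]

theorem isClosed_image (hF : IsQuasiSeparated F) {n : ICone} (ξ : F.obj (op n))
    {S : Set (Orth n)} (hS : IsClosed S) (hinv : Inv S) : IsClosed (P.mk ξ '' S) := by
  rw [isClosed_P_iff]
  intro n' ξ'
  obtain ⟨s, -, hs⟩ := exists_pairs hF ξ ξ'
  have : {w : Orth n' | P.mk ξ' w ∈ P.mk ξ '' S} = ⋃ e ∈ s,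
      {w : Orth n' | ∃ y ∈ push e.2.1 ⁻¹' S, ∃ c : ℝ, 0 < c ∧
        w.1 = c • e.2.2.realMap y.1} := by
    ext w
    simp only [Set.mem_setOf_eq, Set.mem_image, Set.mem_iUnion, Set.mem_preimage]
    constructor
    · rintro ⟨v, hv, h⟩
      obtain ⟨e, he, y, c, c', hc, hc', e1, e2⟩ := (hs v w).mp h
      refine ⟨e, he, y, hinv v _ hv c⁻¹ (inv_pos.mpr hc) ?_, c', hc', e2⟩
      show e.2.1.realMap y.1 = c⁻¹ • v.1
      rw [e1, inv_smul_smul₀ hc.ne']
    · rintro ⟨e, he, y, hy, c, hc, hw⟩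
      exact ⟨_, hy, (hs _ w).mpr ⟨e, he, y, 1, c, one_pos, hc, (one_smul ℝ _).symm, hw⟩⟩
  rw [this]
  refine isClosed_biUnion_finset fun e _ =>
    isClosed_scaled _ (hS.preimage (continuous_push _)) ?_
  intro a b ha c hc hb
  refine hinv _ _ ha c hc ?_
  show e.2.1.realMap b.1 = c • e.2.1.realMap a.1
  rw [hb, Groth.Agent.FanOre.realMap_smul]

theorem inv_univ (n : ICone) : Inv (Set.univ : Set (Orth n)) := fun _ _ _ _ _ _ => trivial

theorem isClosed_cell (hF : IsQuasiSeparated F) {n : ICone} (ξ : F.obj (op n)) :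
    IsClosed (P.cell ξ) := by
  rw [P.cell, ← Set.image_univ]
  exact isClosed_image hF ξ isClosed_univ (inv_univ n)

theorem closed_generated (hF : IsQuasiSeparated F) (S : Set (P F)) :
    IsClosed S ↔ ∀ (n : ICone) (ξ : F.obj (op n)), IsClosed (S ∩ P.cell ξ) := by
  refine ⟨fun h n ξ => h.inter (isClosed_cell hF ξ), fun h => ?_⟩
  rw [isClosed_P_iff]
  intro n ξ
  convert (h n ξ).preimage (continuous_mk ξ) using 1
  ext v
  exact ⟨fun hv => ⟨hv, v, rfl⟩, fun hv => hv.1⟩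

/-- The rays of a bounded map over one cone. -/
theorem exists_over_cone {ψ : F ⟶ G} (hψ : IsBoundedMap ψ) (n : ICone) (ξ : G.obj (op n)) :
    ∃ s : Finset (Σ k : ICone, F.obj (op k) × (k ⟶ n)),
      (∀ e ∈ s, ψ.app _ e.2.1 = G.map e.2.2.op ξ) ∧
      ∀ (v : Orth n) (x : P F), P.map ψ x = P.mk ξ v ↔
        ∃ e ∈ s, ∃ (y : Orth e.1) (c : ℝ), 0 < c ∧ v.1 = c • e.2.2.realMap y.1 ∧
          P.mk e.2.1 y = x := by
  classical
  obtain ⟨s, hs⟩ := hψ n ξ
  let Pb := pullback ψ (coneMap ξ)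
  let g : (Σ k : ICone, Pb.obj (op k)) → (Σ k : ICone, F.obj (op k) × (k ⟶ n)) := fun e =>
    ⟨e.1, (pullback.fst ψ (coneMap ξ)).app _ e.2,
      ((pullback.snd ψ (coneMap ξ)).app _ e.2).down⟩
  have hg : ∀ e, ψ.app _ (g e).2.1 = G.map (g e).2.2.op ξ := fun e =>
    congrArg (fun η : Pb ⟶ G => η.app _ e.2) pullback.condition
  refine ⟨s.image g, fun e he => ?_, fun v x => ⟨fun h => ?_, ?_⟩⟩
  · obtain ⟨z, -, rfl⟩ := Finset.mem_image.mp he
    exact hg z
  · have h' : P.map ψ x = P.map (coneMap ξ) (P.mk (F := uliftYoneda.{u}.obj n)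
        (⟨𝟙 n⟩ : (uliftYoneda.{u}.obj n).obj (op n)) v) := by
      rw [h, map_mk, coneMap_app, op_id]
      simp
    obtain ⟨q, hq1, hq2⟩ := exists_pullback_lift ψ (coneMap ξ) x _ h'
    obtain ⟨z, hz, y, hy⟩ := hs q
    rw [← hy, map_mk] at hq1 hq2
    obtain ⟨c, hc, e1⟩ := yoneda_mk_eq hq2.symm
    exact ⟨g z, Finset.mem_image_of_mem g hz, y, c, hc,
      (Groth.Agent.FanOre.realMap_id v.1).symm.trans e1, hq1⟩
  · rintro ⟨e, he, y, c, hc, e1, rfl⟩
    obtain ⟨z, -, rfl⟩ := Finset.mem_image.mp he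
    rw [map_mk, hg z]
    exact mk_glue _ ξ y v c hc e1

theorem bounded_closed_fibres_image {ψ : F ⟶ G} (hψ : IsBoundedMap ψ) :
    IsClosedMap (P.map ψ) ∧ (∀ y : P G, (P.map ψ ⁻¹' {y}).Finite) ∧
    ∀ (n : ICone) (ξ : G.obj (op n)), ∃ s : Finset (Σ k : ICone, k ⟶ n),
      {v : Orth n | P.mk ξ v ∈ Set.range (P.map ψ)} =
        ⋃ e ∈ s, {v : Orth n | ∃ (y : Orth e.1) (c : ℝ), 0 < c ∧
          v.1 = c • e.2.realMap y.1} := by
  classical
  refine ⟨fun S hS => ?_, fun y => ?_, fun n ξ => ?_⟩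
  · rw [isClosed_P_iff]
    intro n ξ
    obtain ⟨s, -, hs⟩ := exists_over_cone hψ n ξ
    have : {v : Orth n | P.mk ξ v ∈ P.map ψ '' S} = ⋃ e ∈ s,
        {v : Orth n | ∃ y ∈ P.mk e.2.1 ⁻¹' S, ∃ c : ℝ, 0 < c ∧
          v.1 = c • e.2.2.realMap y.1} := by
      ext v
      simp only [Set.mem_setOf_eq, Set.mem_image, Set.mem_iUnion, Set.mem_preimage]
      constructor
      · rintro ⟨x, hx, h⟩
        obtain ⟨e, he, y, c, hc, e1, rfl⟩ := (hs v x).mp h
        exact ⟨e, he, y, hx, c, hc, e1⟩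
      · rintro ⟨e, he, y, hy, c, hc, e1⟩
        exact ⟨_, hy, (hs v _).mpr ⟨e, he, y, c, hc, e1, rfl⟩⟩
    rw [this]
    refine isClosed_biUnion_finset fun e _ =>
      isClosed_scaled _ (hS.preimage (continuous_mk _)) ?_
    intro a b ha c hc hb
    rw [Set.mem_preimage] at ha ⊢
    rwa [← mk_smul _ a b c hc hb]
  · obtain ⟨n, ξ, v, rfl⟩ := exists_mk y
    obtain ⟨s, -, hs⟩ := exists_over_cone hψ n ξ
    refine Set.Finite.subset (Set.Finite.biUnion s.finite_toSet
      (t := fun e => {x : P F | ∃ (y : Orth e.1) (c : ℝ), 0 < c ∧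
        v.1 = c • e.2.2.realMap y.1 ∧ P.mk e.2.1 y = x}) fun e _ => Set.Subsingleton.finite ?_)
      fun x hx => ?_
    · rintro x ⟨y, c, hc, e1, rfl⟩ x' ⟨y', c', hc', e1', rfl⟩
      refine mk_smul _ y y' (c / c') (div_pos hc hc') (realMap_injective e.2.2 ?_)
      show e.2.2.realMap y'.1 = e.2.2.realMap ((c / c') • y.1)
      rw [Groth.Agent.FanOre.realMap_smul, div_eq_inv_mul, mul_smul, ← e1, e1',
        inv_smul_smul₀ hc'.ne']
    · obtain ⟨e, he, h⟩ := (hs v x).mp hx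
      exact Set.mem_iUnion₂.mpr ⟨e, Finset.mem_coe.mpr he, h⟩
  · obtain ⟨s, -, hs⟩ := exists_over_cone hψ n ξ
    refine ⟨s.image fun e => ⟨e.1, e.2.2⟩, Set.ext fun v => ?_⟩
    simp only [Set.mem_setOf_eq, Set.mem_range, Set.mem_iUnion, Finset.mem_image]
    constructor
    · rintro ⟨x, hx⟩
      obtain ⟨e, he, y, c, hc, e1, -⟩ := (hs v x).mp hx
      exact ⟨_, ⟨e, he, rfl⟩, y, c, hc, e1⟩
    · rintro ⟨_, ⟨e, he, rfl⟩, y, c, hc, e1⟩
      exact ⟨P.mk e.2.1 y, (hs v _).mpr ⟨e, he, y, c, hc, e1, rfl⟩⟩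

theorem p_map_injective (ψ : F ⟶ G) (hinj : ∀ n : ICone, Function.Injective (ψ.app (op n))) :
    Function.Injective (P.map ψ) := by
  intro x x' h
  obtain ⟨n, ξ, v, rfl⟩ := exists_mk x
  obtain ⟨n', ξ', v', rfl⟩ := exists_mk x'
  obtain ⟨m, φ, φ', w, c, c', e, hc, hc', e1, e2⟩ := mk_eq h
  rw [← mk_glue φ ξ w v c hc e1, ← mk_glue φ' ξ' w v' c' hc' e2]
  refine congrArg (fun a => P.mk a w) (hinj m ?_)
  rw [NatTrans.naturality_apply, NatTrans.naturality_apply]
  exact e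

theorem closedEmbedding {ψ : F ⟶ G} (hψ : IsBoundedMap ψ)
    (hinj : ∀ n : ICone, Function.Injective (ψ.app (op n))) :
    Topology.IsClosedEmbedding (P.map ψ) :=
  .of_continuous_injective_isClosedMap (continuous_map ψ) (p_map_injective ψ hinj)
    (bounded_closed_fibres_image hψ).1

theorem isRational_mk {n : ICone} (ξ : F.obj (op n)) (v : Orth n) (q : Fin n.dim → ℤ)
    (c : ℝ) (hc : 0 < c) (h : v.1 = c • fun i => (q i : ℝ)) : (P.mk ξ v).IsRational := by
  have hq : ∀ i, 0 ≤ q i := fun i => by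
    have := v.2.1 i
    rw [h] at this
    simp only [Pi.smul_apply, smul_eq_mul] at this
    exact_mod_cast (mul_nonneg_iff_of_pos_left hc).mp this
  have hq0 : q ≠ 0 := fun h0 => v.2.2 (by rw [h]; funext i; simp [h0])
  let l : (Fin (one.dim : ℕ) → ℤ) →ₗ[ℤ] (Fin n.dim → ℤ) :=
    (LinearMap.toSpanSingleton ℤ _ q).comp (LinearMap.proj 0)
  let φ : one ⟶ n :=
    { toLin := l
      injective := fun a b hab => funext fun i => by
        obtain rfl : i = 0 := Subsingleton.elim (α := Fin 1) i 0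
        exact smul_left_injective ℤ hq0 hab
      nonneg := fun a ha j => by
        show 0 ≤ a 0 * q j
        exact mul_nonneg (ha 0) (hq j) }
  refine ⟨F.map φ.op ξ, (mk_glue φ ξ (Orth.ones one) v c hc ?_).symm⟩
  rw [h]
  congr 1
  funext j
  show (q j : ℝ) = ∑ i : Fin 1, (((Pi.single i 1 : Fin 1 → ℤ) 0 • q) j : ℤ) * (1 : ℝ)
  simp

/-- The rational points of the orthant. -/
def ratPts (n : ICone) : Set (Orth n) :=
  {v | ∃ (q : Fin n.dim → ℤ) (c : ℝ), 0 < c ∧ v.1 = c • fun i => (q i : ℝ)}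

theorem mem_closure_ratPts (v : Orth n) : v ∈ closure (ratPts n) := by
  let w : ℕ → Fin n.dim → ℝ := fun m => ((m : ℝ) + 1)⁻¹ • fun i =>
    ((⌈((m : ℝ) + 1) * v.1 i⌉ : ℤ) : ℝ)
  have hw : ∀ m i, v.1 i ≤ w m i ∧ w m i ≤ v.1 i + ((m : ℝ) + 1)⁻¹ := fun m i => by
    have hm : (0 : ℝ) < (m : ℝ) + 1 := by positivity
    have h1 := Int.le_ceil (((m : ℝ) + 1) * v.1 i)
    have h2 := (Int.ceil_lt_add_one (((m : ℝ) + 1) * v.1 i)).le
    simp only [w, Pi.smul_apply, smul_eq_mul]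
    constructor
    · rw [inv_mul_eq_div, le_div_iff₀ hm]
      linarith
    · rw [inv_mul_eq_div, div_le_iff₀ hm, show (v.1 i + ((m : ℝ) + 1)⁻¹) * ((m : ℝ) + 1)
        = ((m : ℝ) + 1) * v.1 i + 1 by field_simp]
      linarith
  let a : ℕ → Orth n := fun m => ⟨w m, fun i => (v.2.1 i).trans (hw m i).1, fun h => v.2.2
    (funext fun i => le_antisymm ((hw m i).1.trans (congrFun h i).le) (v.2.1 i))⟩
  refine mem_closure_of_tendsto (f := a) (b := atTop) ?_
    (Eventually.of_forall fun m => ⟨_, _, inv_pos.mpr (show (0 : ℝ) < (m : ℝ) + 1 by positivity),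
      rfl⟩)
  refine tendsto_subtype_rng.mpr (tendsto_pi_nhds.mpr fun i => ?_)
  have h0 : Tendsto (fun m : ℕ => v.1 i + ((m : ℝ) + 1)⁻¹) atTop (𝓝 (v.1 i)) := by
    simpa using tendsto_const_nhds.add (tendsto_one_div_add_atTop_nhds_zero_nat (𝕜 := ℝ))
  exact tendsto_of_tendsto_of_tendsto_of_le_of_le tendsto_const_nhds h0
    (fun m => (hw m i).1) (fun m => (hw m i).2)

theorem forall_of_rational {S : Set (Orth n)} (hS : IsClosed S) (h : ratPts n ⊆ S) (v : Orth n) :
    v ∈ S :=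
  closure_minimal h hS (mem_closure_ratPts v)

theorem surjective_iff {ψ : F ⟶ G} (hψ : IsBoundedMap ψ) :
    Function.Surjective (P.map ψ) ↔ ∀ y : P G, y.IsRational → y ∈ Set.range (P.map ψ) := by
  refine ⟨fun h y _ => h y, fun h y => ?_⟩
  obtain ⟨n, ξ, v, rfl⟩ := exists_mk y
  exact forall_of_rational
    (S := P.mk ξ ⁻¹' Set.range (P.map ψ))
    ((Set.image_univ ▸ (bounded_closed_fibres_image hψ).1 _ isClosed_univ).preimage
      (continuous_mk ξ))
    (fun w hw => by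
      obtain ⟨q, c, hc, hq⟩ := hw
      exact h _ (isRational_mk ξ w q c hc hq)) v

theorem injective_iff (ψ : F ⟶ G) (hF : IsQuasiSeparated F) :
    Function.Injective (P.map ψ) ↔
      ∀ x y : P F, x.IsRational → y.IsRational → P.map ψ x = P.map ψ y → x = y := by
  refine ⟨fun h x y _ _ hxy => h hxy, fun h x y hxy => ?_⟩
  obtain ⟨n, ξ, v, rfl⟩ := exists_mk x
  obtain ⟨n', ξ', v', rfl⟩ := exists_mk y
  obtain ⟨m, φ, φ', u, c, c', e, hc, hc', e1, e2⟩ := mk_eq hxy
  rw [← mk_glue φ ξ u v c hc e1, ← mk_glue φ' ξ' u v' c' hc' e2]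
  obtain ⟨s, -, hs⟩ := exists_pairs hF (F.map φ.op ξ) (F.map φ'.op ξ')
  have hset : {w : Orth m | P.mk (F.map φ.op ξ) w = P.mk (F.map φ'.op ξ') w} =
      ⋃ e ∈ s, {w : Orth m | ∃ y ∈ {y : Orth e.1 | normalize (push e.2.1 y) =
        normalize (push e.2.2 y)}, ∃ c : ℝ, 0 < c ∧ w.1 = c • e.2.1.realMap y.1} := by
    ext w
    simp only [Set.mem_setOf_eq, Set.mem_iUnion]
    constructor
    · intro hw
      obtain ⟨e, he, y, a, b, ha, hb, f1, f2⟩ := (hs w w).mp hw
      refine ⟨e, he, y, ?_, a, ha, f1⟩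
      rw [normalize_eq_iff]
      refine ⟨b⁻¹ * a, mul_pos (inv_pos.mpr hb) ha, ?_⟩
      show e.2.2.realMap y.1 = (b⁻¹ * a) • e.2.1.realMap y.1
      rw [mul_smul, ← f1, f2, inv_smul_smul₀ hb.ne']
    · rintro ⟨e, he, y, hy, a, ha, f1⟩
      obtain ⟨d, hd, hd'⟩ := (normalize_eq_iff _ _).mp hy
      refine (hs w w).mpr ⟨e, he, y, a, a / d, ha, div_pos ha hd, f1, ?_⟩
      rw [show e.2.2.realMap y.1 = d • e.2.1.realMap y.1 from hd', smul_smul,
        div_mul_cancel₀ _ hd.ne', f1]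
  have hcl : IsClosed {w : Orth m | P.mk (F.map φ.op ξ) w = P.mk (F.map φ'.op ξ') w} := by
    rw [hset]
    refine isClosed_biUnion_finset fun e _ => isClosed_scaled _
      (isClosed_eq (continuous_normalize.comp (continuous_push _))
        (continuous_normalize.comp (continuous_push _))) ?_
    intro a b ha d hd hb
    have : ∀ {k : ICone} (φ : e.1 ⟶ k), normalize (push φ a) = normalize (push φ b) :=
      fun φ => (normalize_eq_iff _ _).mpr ⟨d, hd, by
        show φ.realMap b.1 = d • φ.realMap a.1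
        rw [hb, Groth.Agent.FanOre.realMap_smul]⟩
    show normalize (push e.2.1 b) = normalize (push e.2.2 b)
    rw [← this, ← this]
    exact ha
  refine forall_of_rational hcl (fun w hw => ?_) u
  obtain ⟨q, d, hd, hq⟩ := hw
  refine h _ _ (isRational_mk _ w q d hd hq) (isRational_mk _ w q d hd hq) ?_
  rw [map_mk, map_mk, NatTrans.naturality_apply, NatTrans.naturality_apply, e]

theorem exists_subseq_lift (hF : IsQuasiSeparated F) (x : ℕ → P F) (x₀ : P F)
    (hx : Tendsto x atTop (𝓝 x₀)) :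
    ∃ (n : ICone) (σ : F.obj (op n)) (r : ℕ → ℕ) (v : ℕ → Orth n) (v₀ : Orth n),
      StrictMono r ∧ (∀ j, P.mk σ (v j) = x (r j)) ∧ P.mk σ v₀ = x₀ ∧
        Tendsto v atTop (𝓝 v₀) := by
  classical
  by_cases hfreq : {i | x i = x₀}.Infinite
  · obtain ⟨n, σ, v₀, h₀⟩ := exists_mk x₀
    exact ⟨n, σ, Nat.nth (fun i => x i = x₀), fun _ => v₀, v₀, Nat.nth_strictMono hfreq,
      fun j => by rw [h₀]; exact (Nat.nth_mem_of_infinite hfreq j).symm, h₀,
      tendsto_const_nhds⟩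
  obtain ⟨N, hN⟩ := (Set.not_infinite.mp hfreq).bddAbove
  have hne : ∀ i, N < i → x i ≠ x₀ := fun i hi h => absurd (hN h) (not_le.mpr hi)
  have hcell : ∃ (n : ICone) (σ : F.obj (op n)), {i | x i ∈ P.cell σ}.Infinite := by
    by_contra hcon
    push Not at hcon
    have hray : ∀ p : P F, IsClosed ({p} : Set (P F)) := fun p => by
      obtain ⟨n, σ, w, rfl⟩ := exists_mk p
      have : ({P.mk σ w} : Set (P F)) = P.mk σ '' {u | normalize u = normalize w} := by
        ext q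
        constructor
        · rintro rfl
          exact ⟨w, rfl, rfl⟩
        · rintro ⟨u, hu, rfl⟩
          obtain ⟨c, hc, e⟩ := (normalize_eq_iff u w).mp hu
          exact mk_smul σ u w c hc e
      rw [this]
      exact isClosed_image hF σ (isClosed_eq continuous_normalize continuous_const)
        fun a b ha c hc hb => ((normalize_eq_iff a b).mpr ⟨c, hc, hb⟩).symm.trans ha
    have hA : IsClosed (x '' {i | N < i}) := by
      rw [closed_generated hF]
      intro n ξ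
      have hfin : (x '' {i | N < i} ∩ P.cell ξ).Finite :=
        ((hcon n ξ).image x).subset (by
          rintro _ ⟨⟨i, -, rfl⟩, hi⟩
          exact ⟨i, hi, rfl⟩)
      rw [← Set.biUnion_of_singleton (x '' {i | N < i} ∩ P.cell ξ)]
      exact hfin.isClosed_biUnion fun p _ => hray p
    obtain ⟨i, hi, h⟩ := hA.mem_of_tendsto hx
      (eventually_atTop.mpr ⟨N + 1, fun i hi => ⟨i, hi, rfl⟩⟩)
    exact hne i hi h
  obtain ⟨n, σ, hinf⟩ := hcell
  let r₀ : ℕ → ℕ := Nat.nth (fun i => x i ∈ P.cell σ)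
  have hr₀ : StrictMono r₀ := Nat.nth_strictMono hinf
  choose w hw using fun j => Nat.nth_mem_of_infinite hinf j
  have hwu : ∀ j, P.mk σ (unit (w j)) = x (r₀ j) := fun j => by
    rw [← mk_smul σ (w j) (unit (w j)) _ (inv_pos.mpr (sum_pos_orth (w j))) rfl]
    exact hw j
  have hcomp : CompactSpace (stdSimplex ℝ (Fin n.dim)) :=
    isCompact_iff_compactSpace.mp (isCompact_stdSimplex ℝ (Fin n.dim))
  obtain ⟨z, r₁, hr₁, hz⟩ :=
    CompactSpace.tendsto_subseq fun j => (⟨normalize (w j), normalize_mem (w j)⟩ :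
      stdSimplex ℝ (Fin n.dim))
  refine ⟨n, σ, r₀ ∘ r₁, fun j => unit (w (r₁ j)), ofSimplex n z, hr₀.comp hr₁,
    fun j => hwu (r₁ j), ?_, (continuous_ofSimplex.tendsto z).comp hz⟩
  -- the limit is `x₀`
  have hr : StrictMono (r₀ ∘ r₁) := hr₀.comp hr₁
  let K : Set (Fin n.dim → ℝ) := insert z.1 (Set.range fun j => normalize (w (r₁ (j + (N + 1)))))
  have hK : IsClosed K :=
    (Tendsto.isCompact_insert_range
      (((continuous_subtype_val.tendsto z).comp hz).comp (tendsto_add_atTop_nat (N + 1)))).isClosed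
  have himg : IsClosed (P.mk σ '' (normalize ⁻¹' K)) :=
    isClosed_image hF σ (hK.preimage continuous_normalize) fun a b ha c hc hb => by
      rw [Set.mem_preimage] at *
      rwa [← (normalize_eq_iff a b).mpr ⟨c, hc, hb⟩]
  obtain ⟨u, hu, hux⟩ := himg.mem_of_tendsto
    ((hx.comp hr.tendsto_atTop).comp (tendsto_add_atTop_nat (N + 1)))
    (Eventually.of_forall fun j =>
      ⟨w (r₁ (j + (N + 1))), Or.inr ⟨j, rfl⟩, hw _⟩)
  rcases hu with hu | ⟨j, hj⟩
  · rw [← hux]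
    exact (mk_smul σ u (ofSimplex n z) _ (inv_pos.mpr (sum_pos_orth u)) hu.symm).symm
  · exfalso
    obtain ⟨c, hc, e⟩ := (normalize_eq_iff _ _).mp hj
    rw [← mk_smul σ (w (r₁ (j + (N + 1)))) u c hc e, hw] at hux
    exact hne _ (Nat.lt_of_lt_of_le (show N < j + (N + 1) by omega) (hr.id_le _)) hux

theorem basis_zero_add_ne (t : ℝ) (ht : 0 ≤ t) :
    (∀ i : Fin (two.dim : ℕ), 0 ≤ ((Orth.basis two 0).1 + t • (Orth.basis two 1).1) i) ∧
      (Orth.basis two 0).1 + t • (Orth.basis two 1).1 ≠ 0 :=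
  ⟨fun i => add_nonneg ((Orth.basis two 0).2.1 i) (mul_nonneg ht ((Orth.basis two 1).2.1 i)),
    fun h => by
      have := congrFun h (0 : Fin (two.dim : ℕ))
      simp only [Orth.basis, Pi.add_apply, Pi.smul_apply, Pi.zero_apply, smul_eq_mul] at this
      rw [if_pos trivial, if_neg (fun e => absurd (congrArg Fin.val e)
        (show ¬(0 = 1) from Nat.zero_ne_one)), mul_zero, add_zero] at this
      exact one_ne_zero this⟩

theorem basis_not_prop : ¬ ∃ c : ℝ, (Orth.basis two 1).1 = c • (Orth.basis two 0).1 := by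
  rintro ⟨c, h⟩
  have := congrFun h (1 : Fin (two.dim : ℕ))
  simp only [Orth.basis, Pi.smul_apply, smul_eq_mul] at this
  rw [if_pos trivial, if_neg (fun e => absurd (congrArg Fin.val e)
    (show ¬(1 = 0) from Nat.one_ne_zero)), mul_zero] at this
  exact one_ne_zero this

theorem rational_localMax {Γ : Type v} [LinearOrder Γ] {U : Set (P F)} (hU : IsConvex U)
    (Φ : U → Γ) (hΦ : IsQuasiConcaveOn U Φ) (hlsc : ∀ c : Γ, IsClosed {x : U | Φ x ≤ c}) :
    (∀ x : U, (x : P F).IsRational → IsLocalMax Φ x → ∀ y : U, Φ y ≤ Φ x) ∧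
    (IsStrictQuasiConcaveOn U Φ → ∀ x y : U, (x : P F).IsRational → (y : P F).IsRational →
      IsLocalMax Φ x → IsLocalMax Φ y → x = y) := by
  obtain ⟨-, ⟨S, hS⟩, hedge⟩ := hU
  have hrat : ∀ x : U, (x : P F).IsRational → IsLocalMax Φ x →
      ∀ y : U, (y : P F).IsRational → Φ y ≤ Φ x := by
    intro x hx hmax y hy
    by_contra hlt
    rw [not_le] at hlt
    have hne : (x : P F) ≠ y := fun h => absurd hlt (by rw [Subtype.ext h]; exact lt_irrefl _)
    obtain ⟨τ, hτ, hτ0, hτ1⟩ := hedge _ _ x.2 y.2 hx hy hne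
    let p : Set.Ici (0 : ℝ) → U := fun t =>
      ⟨P.mk τ (⟨_, basis_zero_add_ne t.1 t.2⟩ : Orth two), hτ ⟨_, rfl⟩⟩
    have hp : Continuous p := ((continuous_mk τ).comp ((continuous_const.add
      (continuous_subtype_val.smul continuous_const)).subtype_mk _)).subtype_mk _
    have hp0 : p ⟨0, Set.self_mem_Ici⟩ = x := Subtype.ext (Eq.trans
      (congrArg (P.mk τ) (Subtype.ext (show _ + (0 : ℝ) • _ = _ by rw [zero_smul, add_zero]))) hτ0)
    have hev := (hp.tendsto ⟨0, Set.self_mem_Ici⟩).eventually (hp0.symm ▸ hmax : IsLocalMax Φ _)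
    rw [Filter.Eventually, Metric.mem_nhds_iff] at hev
    obtain ⟨ε, hε, hball⟩ := hev
    have ht : Φ (p ⟨ε / 2, (by positivity : (0 : ℝ) ≤ ε / 2)⟩) ≤ Φ x := by
      have := hball (show (⟨ε / 2, (by positivity : (0 : ℝ) ≤ ε / 2)⟩ : Set.Ici (0 : ℝ)) ∈
        Metric.ball ⟨0, Set.self_mem_Ici⟩ ε by
          simp [Metric.mem_ball, Subtype.dist_eq, abs_of_pos hε]
          linarith)
      rwa [Set.mem_setOf_eq, hp0] at this
    have key := hΦ two τ (Orth.basis two 0) ⟨_, basis_zero_add_ne (ε / 2) (by positivity)⟩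
      (Orth.basis two 1) (hτ ⟨_, rfl⟩) (hτ ⟨_, rfl⟩) (hτ ⟨_, rfl⟩) basis_not_prop
      ⟨1, ε / 2, one_pos, by positivity, congrArg (· + _) (one_smul ℝ _).symm⟩
    have ex : (⟨_, hτ ⟨Orth.basis two 0, rfl⟩⟩ : U) = x := Subtype.ext hτ0
    have ey : (⟨_, hτ ⟨Orth.basis two 1, rfl⟩⟩ : U) = y := Subtype.ext hτ1
    rw [ex, ey, min_eq_left hlt.le] at key
    exact hlt.ne (key.2 (le_antisymm ht key.1))
  have hglob : ∀ x : U, (x : P F).IsRational → IsLocalMax Φ x → ∀ y : U, Φ y ≤ Φ x := by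
    intro x hx hmax y
    have hy2 : (y : P F) ∈ Set.range (P.map S.ι) := by rw [← hS]; exact y.2
    obtain ⟨n, ξ, v, hξ, hy⟩ := exists_of_mem_range hy2
    let g : Orth n → U := fun w => ⟨P.mk ξ w, by rw [hS]; exact mk_mem_range hξ w⟩
    have := forall_of_rational
      ((hlsc (Φ x)).preimage ((continuous_mk ξ).subtype_mk _ : Continuous g))
      (fun w hw => by
        obtain ⟨q, c, hc, hq⟩ := hw
        exact hrat x hx hmax (g w) (isRational_mk ξ w q c hc hq)) v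
    have e : g v = y := Subtype.ext hy
    have h2 : Φ (g v) ≤ Φ x := this
    rwa [e] at h2
  refine ⟨hglob, fun hstrict x y hx hy hmx hmy => ?_⟩
  by_contra hne
  obtain ⟨τ, hτ, hτ0, hτ1⟩ := hedge _ _ x.2 y.2 hx hy fun h => hne (Subtype.ext h)
  have key := hstrict two τ (Orth.basis two 0) ⟨_, basis_zero_add_ne 1 zero_le_one⟩
    (Orth.basis two 1) (hτ ⟨_, rfl⟩) (hτ ⟨_, rfl⟩) (hτ ⟨_, rfl⟩) basis_not_prop
    ⟨1, 1, one_pos, one_pos, congrArg (· + _) (one_smul ℝ _).symm⟩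
  have ex : (⟨_, hτ ⟨Orth.basis two 0, rfl⟩⟩ : U) = x := Subtype.ext hτ0
  have ey : (⟨_, hτ ⟨Orth.basis two 1, rfl⟩⟩ : U) = y := Subtype.ext hτ1
  rw [ex, ey, le_antisymm (hglob y hy hmy x) (hglob x hx hmx y), min_self] at key
  exact absurd key (not_lt.mpr (hglob y hy hmy _))

end Groth.Agent.FanBasicLib
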