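import Groth.Agent.FanBasicLib.Topo
import Groth.Prelude.Def_W4c6instabfans3FanCvx

/-!
# A strictly quasi-concave function has at most one local maximum
-/

set_option autoImplicit false

universe u v

open CategoryTheory Opposite Limits Instab Instab.Fan Filter Topology

namespace Groth.Agent.FanBasicLib

variable {F : Fan.{u}}

theorem add_mem_orth {n : ICone} (v w : Orth n) : (∀ i, 0 ≤ (v.1 + w.1) i) ∧ v.1 + w.1 ≠ 0 :=
  ⟨fun i => add_nonneg (v.2.1 i) (w.2.1 i), fun h => v.2.2 (funext fun i => by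
    have h1 := congrFun h i
    simp only [Pi.add_apply, Pi.zero_apply] at h1 ⊢
    linarith [v.2.1 i, w.2.1 i])⟩

theorem exists_rational_mem {U : Set (P F)} (hU : IsRealizable U) {V : Set U} (hV : IsOpen V)
    {x : U} (hx : x ∈ V) : ∃ x' ∈ V, (x' : P F).IsRational := by
  obtain ⟨S, hS⟩ := hU
  have hy2 : (x : P F) ∈ Set.range (P.map S.ι) := by rw [← hS]; exact x.2
  obtain ⟨n, ξ, v, hξ, hy⟩ := exists_of_mem_range hy2
  let g : Orth n → U := fun w => ⟨P.mk ξ w, by rw [hS]; exact mk_mem_range hξ w⟩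
  have hg : Continuous g := (continuous_mk ξ).subtype_mk _
  obtain ⟨w, hw, q, c, hc, hq⟩ := mem_closure_iff.1 (mem_closure_ratPts v) _ (hV.preimage hg)
    (show g v ∈ V by rwa [show g v = x from Subtype.ext hy])
  exact ⟨g w, hw, isRational_mk ξ w q c hc hq⟩

theorem eventually_lt_of_isLocalMax [T2Space (P F)] {Γ : Type v} [LinearOrder Γ] [TopologicalSpace Γ]
    [OrderTopology Γ] {U : Set (P F)} (hUc : IsCompact U) (hU : IsLocallyConvex U) (Φ : U → Γ)
    (hΦc : Continuous Φ) (hΦ : IsStrictQuasiConcaveOn U Φ) (x : U) (hx : IsLocalMax Φ x) :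
    ∀ᶠ z in 𝓝 x, z ≠ x → Φ z < Φ x := by
  have : CompactSpace U := isCompact_iff_compactSpace.1 hUc
  obtain ⟨K, hK, hKc, hKle⟩ := exists_mem_nhds_isClosed_subset hx
  obtain ⟨W, hW, hWo, hxW⟩ := mem_nhds_iff.1 hK
  obtain ⟨V, hVo, hVW⟩ := isOpen_induced_iff.1 hWo
  let A : Set U := {z | z ∈ K ∧ Φ x ≤ Φ z}
  have hA : IsClosed (Subtype.val '' A : Set (P F)) :=
    hUc.isClosed.isClosedEmbedding_subtypeVal.isClosedMap _
      (hKc.inter (isClosed_le continuous_const hΦc))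
  let S0 : Set (P F) := (Subtype.val '' A) \ {(x : P F)}
  have hS0 : IsClosed S0 := by
    rw [isClosed_P_iff]
    intro n ξ
    refine isClosed_of_closure_subset fun v₀ hv₀ => ?_
    have hvA : P.mk ξ v₀ ∈ Subtype.val '' A :=
      closure_minimal (fun v hv => hv.1) (hA.preimage (continuous_mk ξ)) hv₀
    refine ⟨hvA, fun hv₀x : P.mk ξ v₀ = (x : P F) => ?_⟩
    let m : Orth n → Orth n := fun v => ⟨v₀.1 + v.1, add_mem_orth v₀ v⟩
    have hm : Continuous m := (continuous_const.add continuous_val_orth).subtype_mk _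
    have hm₀ : P.mk ξ (m v₀) = (x : P F) :=
      (mk_smul ξ v₀ (m v₀) 2 two_pos (two_smul ℝ v₀.1).symm).symm.trans hv₀x
    obtain ⟨v, hv, hvD⟩ := mem_closure_iff.1 hv₀ _ (hVo.preimage ((continuous_mk ξ).comp hm))
      (show P.mk ξ (m v₀) ∈ V by rw [hm₀]; exact (hVW.symm ▸ hxW : x ∈ Subtype.val ⁻¹' V))
    obtain ⟨⟨a, ⟨haK, hale⟩, hav⟩, hvx⟩ := hvD
    have h₀ : P.mk ξ v₀ ∈ U := hv₀x ▸ x.2
    have h₂ : P.mk ξ v ∈ U := hav ▸ a.2
    have hseg : ∃ s t : ℝ, 0 < s ∧ 0 < t ∧ (m v).1 = s • v₀.1 + t • v.1 :=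
      ⟨1, 1, one_pos, one_pos, by rw [one_smul, one_smul]⟩
    have h₁ : P.mk ξ (m v) ∈ U := hU n ξ v₀ (m v) v h₀ h₂ hseg
    have hnp : ¬ ∃ c : ℝ, v.1 = c • v₀.1 := by
      rintro ⟨c, hc⟩
      obtain ⟨i, hi⟩ := Function.ne_iff.mp v.2.2
      have hci := congrFun hc i
      simp only [Pi.smul_apply, smul_eq_mul] at hci
      have hcpos : 0 < c := by
        rcases lt_trichotomy c 0 with hneg | rfl | hpos
        · exact absurd (le_antisymm (hci ▸ mul_nonpos_of_nonpos_of_nonneg hneg.le (v₀.2.1 i)) (v.2.1 i)) hi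
        · exact absurd (hci.trans (zero_mul _)) hi
        · exact hpos
      exact hvx ((mk_smul ξ v₀ v c hcpos hc).symm.trans hv₀x)
    have key := hΦ n ξ v₀ (m v) v h₀ h₁ h₂ hnp hseg
    have e0 : (⟨_, h₀⟩ : U) = x := Subtype.ext hv₀x
    have e2 : (⟨_, h₂⟩ : U) = a := Subtype.ext hav.symm
    rw [e0, e2, min_eq_left hale] at key
    have hmK : (⟨_, h₁⟩ : U) ∈ K := hW (by rw [← hVW]; exact hv)
    exact absurd (hKle hmK) key.not_ge
  have hnot : ∀ᶠ z : U in 𝓝 x, (z : P F) ∉ S0 :=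
    continuous_subtype_val.continuousAt.eventually (hS0.isOpen_compl.mem_nhds (fun h => h.2 rfl))
  filter_upwards [hK, hnot] with z hzK hzS hne
  by_contra hlt
  exact hzS ⟨⟨z, ⟨hzK, not_lt.1 hlt⟩, rfl⟩, fun h => hne (Subtype.ext h)⟩

/-- The segment between the vertices of a `2`-cone. -/
noncomputable def seg (t : Set.Icc (0 : ℝ) 1) : Orth two :=
  ⟨(1 - t.1) • (Orth.basis two 0).1 + t.1 • (Orth.basis two 1).1, fun i =>
    add_nonneg (mul_nonneg (by linarith [t.2.2]) ((Orth.basis two 0).2.1 i))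
      (mul_nonneg t.2.1 ((Orth.basis two 1).2.1 i)), fun h => by
    have h0 := congrFun h (0 : Fin (two.dim : ℕ))
    have h1 := congrFun h (1 : Fin (two.dim : ℕ))
    simp only [Orth.basis, Pi.add_apply, Pi.smul_apply, Pi.zero_apply, smul_eq_mul] at h0 h1
    rw [if_pos trivial, if_neg (fun e => absurd (congrArg Fin.val e)
      (show ¬(0 = 1) from Nat.zero_ne_one)), mul_zero, add_zero, mul_one] at h0
    rw [if_pos trivial, if_neg (fun e => absurd (congrArg Fin.val e)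
      (show ¬(1 = 0) from Nat.one_ne_zero)), mul_zero, zero_add, mul_one] at h1
    linarith⟩

theorem continuous_seg : Continuous seg :=
  (((continuous_const.sub continuous_subtype_val).smul continuous_const).add
    (continuous_subtype_val.smul continuous_const)).subtype_mk _

theorem seg_zero : seg ⟨0, by simp⟩ = Orth.basis two 0 :=
  Subtype.ext (by show (1 - (0 : ℝ)) • _ + (0 : ℝ) • _ = _; rw [sub_zero, one_smul, zero_smul, add_zero])

theorem seg_one : seg ⟨1, by simp⟩ = Orth.basis two 1 :=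
  Subtype.ext (by show (1 - (1 : ℝ)) • _ + (1 : ℝ) • _ = _; rw [sub_self, one_smul, zero_smul, zero_add])

theorem eq_of_isLocalMax_of_le [T2Space (P F)] {Γ : Type v} [LinearOrder Γ] [TopologicalSpace Γ]
    [OrderTopology Γ] {U : Set (P F)} (hUc : IsCompact U) (hU : IsConvex U) (Φ : U → Γ)
    (hΦc : Continuous Φ) (hΦ : IsStrictQuasiConcaveOn U Φ) (x y : U) (hx : IsLocalMax Φ x)
    (hle : Φ x ≤ Φ y) : x = y := by
  obtain ⟨hloc, hreal, hedge⟩ := hU
  have : CompactSpace U := isCompact_iff_compactSpace.1 hUc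
  by_contra hxy
  obtain ⟨K, hK, hKc, hKsub⟩ := exists_mem_nhds_isClosed_subset
    (inter_mem (eventually_lt_of_isLocalMax hUc hloc Φ hΦc hΦ x hx) (isOpen_compl_singleton.mem_nhds hxy))
  have hxi : x ∈ interior K := mem_interior_iff_mem_nhds.2 hK
  have hyK : y ∉ K := fun h => (hKsub h).2 rfl
  have hG : ∀ g ∈ frontier K, Φ g < Φ x := fun g hg =>
    (hKsub (hKc.closure_eq ▸ hg.1)).1 (fun h => hg.2 (h ▸ hxi))
  let O : Set U := {z | ∀ g ∈ frontier K, Φ g < Φ z}
  have hO : IsOpen O := by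
    rcases (frontier K).eq_empty_or_nonempty with he | hne
    · have : O = Set.univ := Set.eq_univ_of_forall fun z g hg => absurd hg (by rw [he]; exact Set.notMem_empty g)
      rw [this]; exact isOpen_univ
    · obtain ⟨g₀, hg₀, hmax⟩ := isClosed_frontier.isCompact.exists_isMaxOn hne hΦc.continuousOn
      have : O = Φ ⁻¹' Set.Ioi (Φ g₀) := Set.ext fun z =>
        ⟨fun h => h g₀ hg₀, fun h g hg => lt_of_le_of_lt (hmax hg) h⟩
      rw [this]; exact isOpen_Ioi.preimage hΦc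
  obtain ⟨x', ⟨hx'K, hx'O⟩, hx'r⟩ := exists_rational_mem hreal (isOpen_interior.inter hO) (x := x) ⟨hxi, hG⟩
  obtain ⟨y', ⟨hy'K, hy'O⟩, hy'r⟩ := exists_rational_mem hreal (hKc.isOpen_compl.inter hO) (x := y)
    ⟨hyK, fun g hg => (hG g hg).trans_le hle⟩
  have hne : (x' : P F) ≠ y' := fun h => hy'K (Subtype.ext h ▸ interior_subset hx'K)
  obtain ⟨τ, hτ, hτ0, hτ1⟩ := hedge _ _ x'.2 y'.2 hx'r hy'r hne
  let p : Set.Icc (0 : ℝ) 1 → U := fun t => ⟨P.mk τ (seg t), hτ ⟨_, rfl⟩⟩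
  have hp : Continuous p := ((continuous_mk τ).comp continuous_seg).subtype_mk _
  have hp0 : p ⟨0, by simp⟩ = x' := Subtype.ext (by show P.mk τ (seg _) = _; rw [seg_zero]; exact hτ0)
  have hp1 : p ⟨1, by simp⟩ = y' := Subtype.ext (by show P.mk τ (seg _) = _; rw [seg_one]; exact hτ1)
  obtain ⟨t, ht⟩ : ∃ t, p t ∈ frontier K := by
    by_contra hcon
    push Not at hcon
    have hclopen : IsClopen (p ⁻¹' interior K) := by
      refine ⟨?_, isOpen_interior.preimage hp⟩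
      have : p ⁻¹' interior K = p ⁻¹' K := Set.ext fun t =>
        ⟨fun h => interior_subset (s := K) h, fun h => by_contra fun h' => hcon t ⟨subset_closure h, h'⟩⟩
      rw [this]; exact hKc.preimage hp
    rcases isClopen_iff.1 hclopen with he | hu
    · exact Set.notMem_empty _ (he ▸ (show (⟨0, by simp⟩ : Set.Icc (0 : ℝ) 1) ∈ p ⁻¹' interior K by
        rw [Set.mem_preimage, hp0]; exact hx'K))
    · have h1 : (⟨1, by simp⟩ : Set.Icc (0 : ℝ) 1) ∈ p ⁻¹' interior K := hu ▸ trivial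
      rw [Set.mem_preimage, hp1] at h1
      exact hy'K (interior_subset h1)
  have ht0 : 0 < t.1 := by
    refine lt_of_le_of_ne t.2.1 fun h => ?_
    rw [show t = ⟨0, by simp⟩ from Subtype.ext h.symm, hp0] at ht
    exact ht.2 hx'K
  have ht1 : t.1 < 1 := by
    refine lt_of_le_of_ne t.2.2 fun h => ?_
    rw [show t = ⟨1, by simp⟩ from Subtype.ext h, hp1] at ht
    exact hy'K (hKc.closure_eq ▸ ht.1)
  have key := hΦ two τ (Orth.basis two 0) (seg t) (Orth.basis two 1) (hτ ⟨_, rfl⟩) (hτ ⟨_, rfl⟩)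
    (hτ ⟨_, rfl⟩) basis_not_prop ⟨1 - t.1, t.1, by linarith, ht0, rfl⟩
  have ex : (⟨_, hτ ⟨Orth.basis two 0, rfl⟩⟩ : U) = x' := Subtype.ext hτ0
  have ey : (⟨_, hτ ⟨Orth.basis two 1, rfl⟩⟩ : U) = y' := Subtype.ext hτ1
  rw [ex, ey] at key
  exact absurd key (lt_min (hx'O _ ht) (hy'O _ ht)).le.not_gt

theorem eq_of_isLocalMax [T2Space (P F)] {Γ : Type v} [LinearOrder Γ] [TopologicalSpace Γ]
    [OrderTopology Γ] {U : Set (P F)} (hUc : IsCompact U) (hU : IsConvex U) (Φ : U → Γ)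
    (hΦc : Continuous Φ) (hΦ : IsStrictQuasiConcaveOn U Φ) (x y : U) (hx : IsLocalMax Φ x)
    (hy : IsLocalMax Φ y) : x = y :=
  (le_total (Φ x) (Φ y)).elim (eq_of_isLocalMax_of_le hUc hU Φ hΦc hΦ x y hx)
    fun h => (eq_of_isLocalMax_of_le hUc hU Φ hΦc hΦ y x hy h).symm

end Groth.Agent.FanBasicLib
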